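import Cfsg.Agent.Lib.Fi22Loc.Geom.Frame
import Cfsg.Agent.Lib.PolarAut.PSU

/-!
An involutory automorphism of the unitary group normalises one of the subgroups of order three with two eigenspaces
of dimension three.
-/

set_option autoImplicit false
set_option linter.unusedSectionVars false
set_option synthInstance.maxSize 1024

namespace CfsgLib.Fi22Loc.Geom

open Matrix CfsgLib CfsgLib.UnitaryTransvection CfsgLib.UnitarySimple CfsgThreeTrans.M22

variable {F : Type} [Field F] [Fintype F] [DecidableEq F] (hF : Fintype.card F = 2 ^ 2)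

local notation "h" => Cfsg.hermForm 6 F 2
local notation "σ" => frob hF
local notation "V" => (Fin 6 → F)
local notation "π" => QuotientGroup.mk' (Subgroup.center (Cfsg.SU 6 F 2))

include hF

theorem IsFrame.comp {v : Fin 6 → V} (hv : IsFrame v) (e : Equiv.Perm (Fin 6)) : IsFrame (v ∘ e) := fun i j => by
  simp only [Function.comp_apply, hv (e i) (e j)]
  by_cases q : i = j
  · subst q; simp
  · rw [if_neg q, if_neg fun r => q (e.injective r)]

theorem aut_kinds {z : F} (hz : z * z + z + 1 = 0) (τ : F →+* F) :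
    τ = RingHom.id F ∨ τ = σ := by
  have h2 := two_zero hF
  obtain ⟨w, w0, w1, hw, hs, hall⟩ := exists_zeta hF
  have e : τ w * τ w + τ w + 1 = 0 := by rw [← map_mul, ← map_one τ, ← map_add, ← map_add, hw, map_zero]
  have hτ : τ w = w ∨ τ w = w * w := by
    rcases hall (τ w) with r | r | r | r
    · rw [r] at e; simp at e
    · rw [r] at e; exact absurd (by linear_combination e - h2 : (1 : F) = 0) one_ne_zero
    exacts [Or.inl r, Or.inr r]
  rcases hτ with r | r
  · refine Or.inl (RingHom.ext fun a => ?_)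
    rcases hall a with rfl | rfl | rfl | rfl <;> simp [r]
  · refine Or.inr (RingHom.ext fun a => ?_)
    rcases hall a with rfl | rfl | rfl | rfl <;> simp [r, hs]

/-- An involutory automorphism normalises a class of the frame type. -/
theorem exists_normalised (β : MulAut (Cfsg.PSU 6 F 2)) (hβ : ∀ x, β (β x) = x) {z : F} (hz : z * z + z + 1 = 0) :
    ∃ (v : Fin 6 → V) (hv : IsFrame v), β (cls hF hv hz) = cls hF hv hz ∨ β (cls hF hv hz) = (cls hF hv hz)⁻¹ := by
  classical
  have h2 := two_zero hF
  obtain ⟨g, σe, hg, hind⟩ := PolarAut.psu_semilinear hF (n := 6) (by norm_num) (by norm_num) β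
  set τ : F →+* F := σe.toRingHom
  have hkind := aut_kinds hF hz τ
  have ττ : ∀ a, τ (τ a) = a := fun a => by
    rcases hkind with e | e <;> rw [e]
    exacts [rfl, frob_frob hF a]
  set f : V → V := fun x => g.1 *ᵥ (fun i => τ (x i)) with hf
  have fadd : ∀ x y, f (x + y) = f x + f y := fun x y => by
    simp only [hf, Pi.add_apply, map_add]
    exact mulVec_add _ _ _
  have fsmul : ∀ (c : F) x, f (c • x) = τ c • f x := fun c x => by
    simp only [hf, Pi.smul_apply, smul_eq_mul, map_mul]
    rw [show (fun i => τ c * τ (x i)) = τ c • fun i => τ (x i) from rfl, mulVec_smul]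
  have fh : ∀ x y, h (f x) (f y) = τ (h x y) := fun x y => by
    show h (g.1 *ᵥ fun i => τ (x i)) (g.1 *ᵥ fun i => τ (y i)) = _
    refine (hg _ _).trans ?_
    simp [Cfsg.hermForm, map_sum]
  -- conjugation on vectors
  have hmv : ∀ (T : Matrix (Fin 6) (Fin 6) F) (x : V),
      (g.1 * T.map σe * (g⁻¹ : GL (Fin 6) F).1) *ᵥ f x = f (T *ᵥ x) := fun T x => by
    simp only [hf]
    rw [← mulVec_mulVec, mulVec_mulVec _ (g⁻¹ : GL (Fin 6) F).1, show (g⁻¹ : GL (Fin 6) F).1 * g.1 = 1 from g.inv_mul,
      one_mulVec, ← mulVec_mulVec]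
    congr 1
    funext i
    simp [Matrix.mulVec, dotProduct, map_sum, τ]
  -- the image of a transvection
  have htu : ∀ u : V, h u u = 0 → β (π (tu hF u)) = π (tu hF (f u)) := fun u hu => by
    refine hind _ _ (Matrix.ext_of_mulVec_single fun j => ?_)
    obtain ⟨x, hx⟩ : ∃ x, f x = Pi.single j 1 := ⟨fun i => τ (((g⁻¹ : GL (Fin 6) F).1 *ᵥ Pi.single j 1) i), by
      simp only [hf, ττ]
      rw [mulVec_mulVec, show g.1 * (g⁻¹ : GL (Fin 6) F).1 = 1 from g.mul_inv, one_mulVec]⟩
    show mat (tu hF (f u)) *ᵥ Pi.single j 1 = _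
    rw [← hx, hmv, show ((tu hF u : Cfsg.SU 6 F 2) : Matrix.SpecialLinearGroup (Fin 6) F).1 = mat (tu hF u) from rfl,
      tu_mulVec hF hu, tu_mulVec hF (by rw [fh, hu, map_zero]), fadd, fsmul, fh]
  -- the square is scalar
  have hline : ∀ u : V, u ≠ 0 → h u u = 0 → ∃ a : F, f (f u) = a • u := fun u u0 hu => by
    have e := hβ (π (tu hF u))
    rw [htu u hu, htu (f u) (by rw [fh, hu, map_zero])] at e
    refine (mk_eq_iff hF (by rw [fh, fh, hu, map_zero, map_zero]) (fun q => u0 ?_) hu).mp e
    have hy : ∀ y, h u y = 0 := fun y => by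
      have := fh (f u) (f y)
      rw [q, h_zero_left hF, fh, ττ] at this
      exact this.symm
    exact h_nondeg hF hy
  have ffadd : ∀ x y, f (f (x + y)) = f (f x) + f (f y) := fun x y => by rw [fadd, fadd]
  have ffsmul : ∀ (c : F) x, f (f (c • x)) = c • f (f x) := fun c x => by rw [fsmul, fsmul, ττ]
  have hpair : ∀ i j : Fin 6, i ≠ j → ∃ a : F, (f (f (Pi.single i 1)) + f (f (Pi.single j 1)) =
      a • ((Pi.single i 1 : V) + Pi.single j 1)) ∧ ∀ k, k ≠ i → k ≠ j → f (f (Pi.single j 1)) k = 0 := fun i j hij => by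
    have hu : ∀ c : F, c ≠ 0 → ((Pi.single i 1 : V) + c • Pi.single j 1) ≠ 0 ∧
        h ((Pi.single i 1 : V) + c • Pi.single j 1) ((Pi.single i 1 : V) + c • Pi.single j 1) = 0 := fun c hc => by
      refine ⟨fun q => one_ne_zero (α := F) (by simpa [Pi.single_eq_of_ne hij] using congrFun q i), ?_⟩
      have hs : ∀ a b : Fin 6, h (Pi.single a 1 : V) (Pi.single b 1) = if a = b then 1 else 0 := fun a b => by
        by_cases q : a = b
        · subst q; simp [Cfsg.hermForm, Pi.single_apply, Finset.sum_ite_eq', apply_ite (· ^ 2)]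
        · simp [Cfsg.hermForm, Pi.single_apply, q, apply_ite (· ^ 2), Finset.sum_ite_eq', Ne.symm q]
      rw [h_add_left, h_add_right hF, h_add_right hF, h_smul_left, h_smul_right hF, h_smul_right hF, h_smul_left,
        hs, hs, hs, hs, if_pos rfl, if_pos rfl, if_neg hij, if_neg hij.symm]
      linear_combination (norm_fix hF hc) + h2
    obtain ⟨a, ha⟩ := hline _ (hu 1 one_ne_zero).1 (hu 1 one_ne_zero).2
    obtain ⟨w, w0, w1, -, -, -⟩ := exists_zeta hF
    obtain ⟨b, hb⟩ := hline _ (hu w w0).1 (hu w w0).2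
    rw [one_smul, ffadd] at ha
    rw [ffadd, ffsmul] at hb
    refine ⟨a, ha, fun k ki kj => ?_⟩
    have e1 := congrFun ha k
    have e2 := congrFun hb k
    simp [Pi.single_eq_of_ne ki, Pi.single_eq_of_ne kj] at e1 e2
    have : (1 - w) * f (f (Pi.single j 1)) k = 0 := by linear_combination e1 - e2
    exact (mul_eq_zero.mp this).resolve_left (sub_ne_zero.mpr w1.symm)
  have hdiag : ∀ j k : Fin 6, k ≠ j → f (f (Pi.single j 1)) k = 0 := fun j k hkj => by
    obtain ⟨i, hi, hik⟩ := (by decide : ∀ j k : Fin 6, ∃ i, i ≠ j ∧ k ≠ i) j k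
    obtain ⟨a, -, e⟩ := hpair i j hi
    exact e k hik hkj
  set c : F := f (f (Pi.single 0 1)) 0
  have hc : ∀ j, f (f (Pi.single j 1)) j = c := fun j => by
    by_cases q : j = 0
    · subst q; rfl
    obtain ⟨a, ha, -⟩ := hpair j 0 q
    have e1 := congrFun ha j
    have e0 := congrFun ha 0
    simp [Pi.single_eq_of_ne q, Pi.single_eq_of_ne (Ne.symm q), hdiag 0 j q, hdiag j 0 (Ne.symm q)] at e1 e0
    rw [e1, ← e0]
  have hff : ∀ x, f (f x) = c • x := fun x => by
    have hx : x = ∑ j, x j • (Pi.single j 1 : V) := by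
      funext k; simp [Finset.sum_apply, Pi.single_apply]
    have hsum : ∀ (S : Finset (Fin 6)), f (f (∑ j ∈ S, x j • (Pi.single j 1 : V))) = c • ∑ j ∈ S, x j • (Pi.single j 1 : V) := by
      intro S
      induction S using Finset.induction with
      | empty =>
        rw [Finset.sum_empty, smul_zero]
        have := ffsmul 0 0
        simpa using this
      | insert j S hj ih =>
        rw [Finset.sum_insert hj, ffadd, ffsmul, ih, smul_add]
        congr 1
        funext k
        by_cases q : k = j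
        · subst q; simp [hc]; ring
        · simp [hdiag j k q, Pi.single_eq_of_ne q]
    rw [hx]
    exact hsum Finset.univ
  have c0 : c ≠ 0 := fun q => by
    have := fh (f (Pi.single 0 1)) (f (Pi.single 0 1))
    rw [hff, q, zero_smul, h_zero_left hF, fh, ττ] at this
    exact one_ne_zero (α := F) (by simpa [Cfsg.hermForm, Pi.single_apply, apply_ite (· ^ 2)] using this.symm)
  -- normalise
  set f' : V → V := fun x => c • f x with hf'
  have J : SemiInv hF f' τ := by
    refine ⟨fun x y => by simp only [hf', fadd, smul_add], fun a x => by simp only [hf', fsmul, smul_comm c],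
      fun x y => ?_, fun x => ?_, hkind⟩
    · simp only [hf', h_smul_left, h_smul_right hF, fh]
      linear_combination τ (h x y) * (CfsgThreeTrans.M22.norm_one hF c0)
    · simp only [hf', fsmul, hff, smul_smul]
      have : c * τ c * c = 1 := by
        rcases hkind with e | e <;> rw [e]
        · simp only [RingHom.id_apply]; exact ThreeEigen.cube' hF c0
        · have hfix : τ c = c := by
            have e1 : f (f (f (Pi.single 0 1))) = τ c • f (Pi.single 0 1) := by rw [hff (Pi.single 0 1), fsmul]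
            rw [hff (f _)] at e1
            have f0 : f (Pi.single 0 1) ≠ 0 := fun q => by
              have := fh (Pi.single 0 1) (Pi.single 0 1)
              rw [q, h_zero_left hF] at this
              simp [Cfsg.hermForm, Pi.single_apply, apply_ite (· ^ 2)] at this
            exact (smul_left_injective F f0 e1).symm
          rw [e] at hfix
          rw [hfix, (fixed hF hfix).resolve_left c0]; ring
      rw [← mul_assoc, this, one_smul]
  obtain ⟨v, p, hv, hpp, hvp⟩ := exists_frame hF J
  obtain ⟨A, hA, hAp⟩ := exists_half hF p hpp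
  obtain ⟨e, he⟩ := half_cases A hA
  set w := v ∘ e
  have hw : IsFrame w := IsFrame.comp hF hv e
  set q : Equiv.Perm (Fin 6) := e⁻¹ * p * e
  have hwq : ∀ i, f' (w i) = w (q i) := fun i => by simp [w, q, hvp]
  refine ⟨w, hw, ?_⟩
  -- the image of the class
  have hqq : ∀ i, q (q i) = i := fun i => by
    show (q * q) i = i
    rw [show q * q = e⁻¹ * (p * p) * e by simp [q, mul_assoc], hpp, mul_one, inv_mul_cancel, Equiv.Perm.one_apply]
  have hat : ∀ (a : Fin 6 → ZMod 3) (ha : ∑ i, a i = 0), (∀ i, τ (zp z (half (q i))) = zp z (a i)) →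
      β (cls hF hw hz) = π (mono hF hw hz a ha 1) := fun a ha hai => by
    refine hind _ _ ?_
    set T : Cfsg.SU 6 F 2 := g0 hF hw hz
    have key : ∀ i, (g.1 * (mat T).map σe * (g⁻¹ : GL (Fin 6) F).1) *ᵥ w i =
        mat (mono hF hw hz a ha 1) *ᵥ w i := fun i => by
      have h0 : mat T *ᵥ w (q i) = zp z (half (q i)) • w (q i) := by
        simp only [T, g0, mono_apply hF hw hz, Equiv.Perm.one_apply]
      have hw' : f ((τ c) • w (q i)) = w i := by
        rw [fsmul, ττ]
        exact (hwq (q i)).trans (by rw [hqq])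
      conv_lhs => rw [← hw']
      rw [hmv, mulVec_smul, h0, smul_comm, fsmul, hw', hai, mono_apply hF hw hz, Equiv.Perm.one_apply]
    refine Matrix.ext_of_mulVec_single fun j => ?_
    have hy : colM w *ᵥ ((frameGU hF hw)⁻¹.1.1 *ᵥ Pi.single j 1) = Pi.single j 1 :=
      gu_inv_mulVec (frameGU hF hw) (Pi.single j 1)
    show mat (mono hF hw hz a ha 1) *ᵥ Pi.single j 1 = (g.1 * (mat T).map σe * (g⁻¹ : GL (Fin 6) F).1) *ᵥ Pi.single j 1
    rw [← hy, colM_mulVec hF]
    simp only [mulVec_sum, mulVec_smul, key]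
  have mkc : ∀ (a : Fin 6 → ZMod 3) (ha : ∑ i, a i = 0) (b : Fin 6 → ZMod 3) (hb : ∑ i, b i = 0) (k : ZMod 3),
      (∀ i, a i = b i + k) → π (mono hF hw hz a ha 1) = π (mono hF hw hz b hb 1) := fun a ha b hb k hk => by
    have hk0 : ∑ _i : Fin 6, k = 0 := by
      rw [Finset.sum_const, Finset.card_univ, Fintype.card_fin]
      exact (by decide : ∀ k : ZMod 3, (6 : ℕ) • k = 0) k
    refine (QuotientGroup.mk'_eq_mk' _).mpr ⟨_, inv_mem (mono_const hF hw hz k hk0), ?_⟩
    rw [mul_inv_eq_iff_eq_mul]
    refine frame_ext hF hw fun i => ?_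
    simp only [mat_mul, ← mulVec_mulVec, mono_apply hF hw hz, mulVec_smul, smul_smul, Equiv.Perm.one_apply]
    rw [← zp_add hF hz, add_comm, ← hk]
  have hinvc : π (mono hF hw hz (fun i => -half i) (by rw [Finset.sum_neg_distrib, half_sum.1, neg_zero]) 1) =
      (cls hF hw hz)⁻¹ := by
    rw [cls, ← map_inv]
    refine congrArg π (eq_inv_of_mul_eq_one_left (frame_ext hF hw fun i => ?_))
    simp only [g0, mat_mul, ← mulVec_mulVec, mono_apply hF hw hz, mulVec_smul, smul_smul, Equiv.Perm.one_apply,
      mat_one, one_mulVec]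
    rw [← zp_add hF hz]
    simp [zp]
  have hh : ∀ i, (i.val < 3 ↔ e i ∈ A) := he
  have hq : (∀ i, half (q i) = half i) ∨ ∀ i, half (q i) = 1 + -half i := by
    have hi : ∀ i, (q i).val < 3 ↔ p (e i) ∈ A := fun i => by rw [hh]; simp [q]
    rcases hAp with r | r
    · refine Or.inl fun i => ?_
      simp only [half, hi, ← r, ← hh]
    · refine Or.inr fun i => ?_
      simp only [half, hi]
      have := r (e i)
      by_cases d : i.val < 3
      · rw [if_pos d, if_neg (this.mp ((hh i).mp d))]; decide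
      · rw [if_neg d, if_pos (by_contra fun n => d ((hh i).mpr (this.mpr n)))]; decide
  have hzs : ∀ b : ZMod 3, τ (zp z b) = zp z b ∧ τ = RingHom.id F ∨ τ (zp z b) = zp z (-b) ∧ τ = σ := fun b => by
    rcases hkind with r | r
    · exact Or.inl ⟨by rw [r]; rfl, r⟩
    · refine Or.inr ⟨?_, r⟩
      rw [r, frob_apply, pow_two, ← zp_add hF hz, (by decide : ∀ b : ZMod 3, b + b = -b) b]
  have hsum1 : ∑ i, (1 + -half i) = 0 := by decide
  rcases hkind with r | r <;> rcases hq with s | s
  · left
    exact hat half half_sum.1 fun i => by rw [r, s]; rfl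
  · right
    rw [hat _ hsum1 fun i => by rw [r, s]; rfl, ← hinvc]
    exact mkc _ _ _ _ 1 fun i => add_comm _ _
  · right
    rw [← hinvc]
    refine hat _ _ fun i => ?_
    rw [r, frob_apply, pow_two, ← zp_add hF hz, s, (by decide : ∀ b : ZMod 3, b + b = -b) (half i)]
  · left
    rw [hat (fun i => -(1 + -half i)) (by rw [Finset.sum_neg_distrib, hsum1, neg_zero]) fun i => by
      rw [r, frob_apply, pow_two, ← zp_add hF hz, s, (by decide : ∀ b : ZMod 3, b + b = -b) (1 + -half i)]]
    exact mkc _ _ _ half_sum.1 (-1) fun i => by ring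

end CfsgLib.Fi22Loc.Geom
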