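import Cfsg.Agent.Lib.Fi22Loc.Geom.Frame

/-!
Elements of order three of the unitary group centralised by elements of order four, their abelian groups of order 81,
and the involutions commuting with a noncommuting pair over a class of the frame type.
-/

set_option autoImplicit false
set_option linter.unusedSectionVars false
set_option synthInstance.maxSize 1024

namespace CfsgLib.Fi22Loc.Geom

open Matrix CfsgLib CfsgLib.UnitaryTransvection CfsgLib.UnitarySimple CfsgThreeTrans.M22

variable {F : Type} [Field F] [Fintype F] [DecidableEq F] (hF : Fintype.card F = 2 ^ 2)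

local notation "h" => Cfsg.hermForm 6 F 2
local notation "σ" => frob hF
local notation "V" => (Fin 6 → F)
local notation "π" => QuotientGroup.mk' (Subgroup.center (Cfsg.SU 6 F 2))

include hF

theorem center_smul {Z : Cfsg.SU 6 F 2} (hZ : Z ∈ Subgroup.center (Cfsg.SU 6 F 2)) :
    ∃ c : F, c ≠ 0 ∧ ∀ x, mat Z *ᵥ x = c • x := by
  obtain ⟨t, ht⟩ := (SpectrumPowers.mk_eq_one_iff_SU hF (by norm_num) _).mp ((QuotientGroup.eq_one_iff _).mpr hZ)
  have key : ∀ x, mat Z *ᵥ x = t • x := fun x => by
    rw [show mat Z = Matrix.scalar (Fin 6) t from ht, Matrix.scalar_apply]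
    funext r
    simp [mulVec_diagonal]
  refine ⟨t, fun e => ?_, key⟩
  have := mat_ne_zero Z (e := (Pi.single 0 1 : V)) (fun q => one_ne_zero (α := F) (by simpa using congrFun q 0))
  rw [key, e, zero_smul] at this
  exact this rfl

/-- Lifts of commuting classes commute up to a scalar. -/
theorem scalar_comm {A B : Cfsg.SU 6 F 2} (e : Commute (π A) (π B)) :
    ∃ l : F, l ≠ 0 ∧ ∀ x, mat A *ᵥ (mat B *ᵥ x) = l • (mat B *ᵥ (mat A *ᵥ x)) := by
  obtain ⟨Z, hZ, hz⟩ := (QuotientGroup.mk'_eq_mk' _).mp (show π (B * A) = π (A * B) by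
    rw [map_mul, map_mul]; exact e.eq.symm)
  obtain ⟨l, l0, hl⟩ := center_smul hF hZ
  refine ⟨l, l0, fun x => ?_⟩
  have := congrArg (fun g => mat g *ᵥ x) hz.symm
  simp only [mat_mul, ← mulVec_mulVec, hl, mulVec_smul] at this
  exact this

/-- An element of order four commuting with a fixed-point-free element of order three is excluded. -/
theorem irred_sq {X A : Cfsg.SU 6 F 2} {c : F} (hc0 : c ≠ 0) (hc1 : c ≠ 1)
    (hX : ∀ x, mat X *ᵥ (mat X *ᵥ (mat X *ᵥ x)) = c • x)
    (hAX : ∀ x, mat A *ᵥ (mat X *ᵥ x) = mat X *ᵥ (mat A *ᵥ x)) (hA : A ^ 4 = 1) : A ^ 2 = 1 := by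
  have hA4 : ∀ x, mat A *ᵥ (mat A *ᵥ (mat A *ᵥ (mat A *ᵥ x))) = x := fun x => by
    have := congrArg (fun g => mat g *ᵥ x) hA
    simpa only [pow_succ, pow_zero, one_mul, mat_mul, ← mulVec_mulVec, mat_one, one_mulVec] using this
  let L : Module.End F V := (mat X).mulVecLin
  let N : Module.End F V := (mat A).mulVecLin + 1
  have hN : ∀ x, N x = mat A *ᵥ x + x := fun x => rfl
  have h2 := two_zero hF
  have hdiv : ∀ W : Submodule F V, (∀ x ∈ W, L x ∈ W) → 3 ∣ Module.finrank F W := fun W hW => by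
    set R : Module.End F W := L.restrict hW
    have hR : R ^ 3 = c • (1 : Module.End F W) := LinearMap.ext fun x => Subtype.ext (by
      show mat X *ᵥ (mat X *ᵥ (mat X *ᵥ (x : V))) = c • (x : V)
      exact hX x)
    have hd : LinearMap.det R ^ 3 = c ^ Module.finrank F W := by
      rw [← map_pow, hR, LinearMap.det_smul, map_one, mul_one]
    have hd0 : LinearMap.det R ≠ 0 := fun e => by
      rw [e, zero_pow three_ne_zero] at hd
      exact pow_ne_zero _ hc0 hd.symm
    have hdet3 : c ^ Module.finrank F W = 1 := by rw [← hd, cube hF hd0]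
    have ho : orderOf c = 3 := by
      haveI : Fact (Nat.Prime 3) := ⟨Nat.prime_three⟩
      exact orderOf_eq_prime (cube hF hc0) hc1
    rw [← ho]
    exact orderOf_dvd_of_pow_eq_one hdet3
  have hinv : ∀ k : ℕ, ∀ x ∈ LinearMap.ker (N ^ k), L x ∈ LinearMap.ker (N ^ k) := fun k x hx => by
    have hc : Commute L N := LinearMap.ext fun y => by
      show mat X *ᵥ (mat A *ᵥ y + y) = mat A *ᵥ (mat X *ᵥ y) + mat X *ᵥ y
      rw [mulVec_add, hAX]
    rw [LinearMap.mem_ker] at hx ⊢
    have := congrArg (fun M : Module.End F V => M x) (hc.pow_right k).eq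
    simp only [Module.End.mul_apply] at this
    rw [← this, hx, map_zero]
  have hN2 : ∀ x, N (N x) = mat A *ᵥ (mat A *ᵥ x) + x := fun x => by
    simp only [hN, mulVec_add]
    rw [add_assoc, ← add_assoc (mat A *ᵥ x), vadd_self hF, zero_add]
  have hN4 : ∀ x, N (N (N (N x))) = 0 := fun x => by
    rw [hN2 (N (N x)), hN2 x, mulVec_add, mulVec_add, hA4]
    rw [add_comm x, add_comm (mat A *ᵥ (mat A *ᵥ x)) x]
    exact vadd_self hF _
  suffices hNN : ∀ x, N (N x) = 0 by
    refine su_ext fun x => ?_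
    have := hNN x
    rw [hN2] at this
    rw [pow_two, mat_mul, ← mulVec_mulVec, mat_one, one_mulVec]
    have e := congrArg (· + x) this
    simpa [add_assoc, vadd_self hF] using e
  by_contra hne
  push Not at hne
  obtain ⟨x0, hx0⟩ := hne
  have hk : ∀ k, LinearMap.ker (N ^ k) ≤ LinearMap.ker (N ^ (k + 1)) := fun k x hx => by
    rw [LinearMap.mem_ker] at hx ⊢
    rw [pow_succ', Module.End.mul_apply, hx, map_zero]
  have m1 : ∀ x, x ∈ LinearMap.ker (N ^ 1) ↔ N x = 0 := fun x => by rw [LinearMap.mem_ker, pow_one]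
  have m2 : ∀ x, x ∈ LinearMap.ker (N ^ 2) ↔ N (N x) = 0 := fun x => by
    rw [LinearMap.mem_ker, pow_two, Module.End.mul_apply]
  have l2 : LinearMap.ker (N ^ 2) < ⊤ := lt_top_iff_ne_top.mpr fun e => hx0 ((m2 x0).mp (e ▸ Submodule.mem_top))
  have l1 : LinearMap.ker (N ^ 1) < LinearMap.ker (N ^ 2) := by
    refine lt_of_le_of_ne (hk 1) fun e => hx0 ?_
    have step : ∀ y, N (N y) = 0 → N y = 0 := fun y hy => (m1 y).mp (e ▸ (m2 y).mpr hy)
    rw [step x0 (step (N x0) (step (N (N x0)) (hN4 x0)) |> fun q => q)]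
    exact map_zero N
  have l0 : LinearMap.ker (N ^ 1) ≠ ⊥ := fun e => hx0 (by
    have step : ∀ y, N y = 0 → y = 0 := fun y hy => (Submodule.mem_bot F).mp (e ▸ (m1 y).mpr hy)
    exact step _ (step _ (hN4 x0)))
  have f1 := Submodule.finrank_lt_finrank_of_lt l1
  have f2 := Submodule.finrank_lt_finrank_of_lt l2
  have f0 : 0 < Module.finrank F (LinearMap.ker (N ^ 1)) :=
    Nat.pos_of_ne_zero fun q => l0 (Submodule.finrank_eq_zero.mp q)
  rw [finrank_top, Module.finrank_fin_fun] at f2
  have d1 := hdiv _ (hinv 1)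
  have d2 := hdiv _ (hinv 2)
  omega

/-- An element of order three centralised by one of order four has lifts of order three. -/
theorem exists_cube_lift {x s : Cfsg.PSU 6 F 2} (hx : x ^ 3 = 1) (hs : s ^ 4 = 1) (hs2 : s ^ 2 ≠ 1)
    (hc : Commute s x) : ∃ X : Cfsg.SU 6 F 2, π X = x ∧ ∀ v, mat X *ᵥ (mat X *ᵥ (mat X *ᵥ v)) = v := by
  obtain ⟨X, rfl⟩ := QuotientGroup.mk'_surjective _ x
  obtain ⟨S, rfl⟩ := QuotientGroup.mk'_surjective _ s
  obtain ⟨c, c0, hcc⟩ := center_smul hF (Z := X ^ 3) ((QuotientGroup.eq_one_iff _).mp (by rw [← hx]; rfl))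
  have hX : ∀ v, mat X *ᵥ (mat X *ᵥ (mat X *ᵥ v)) = c • v := fun v => by
    rw [← hcc, pow_succ, pow_two, mat_mul, mat_mul, ← mulVec_mulVec, ← mulVec_mulVec]
  by_cases hc1 : c = 1
  · exact ⟨X, rfl, fun v => by rw [hX, hc1, one_smul]⟩
  exfalso
  set A := S ^ 9
  have hπA : π A = π S := by rw [map_pow, pow_succ, show (8 : ℕ) = 4 * 2 from rfl, pow_mul, hs, one_pow, one_mul]
  have hA4 : A ^ 4 = 1 := by
    have hS : π (S ^ 4) = 1 := by rw [map_pow]; exact hs
    rw [← pow_mul, show 9 * 4 = 4 * (3 * 3) from rfl, pow_mul, pow_mul,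
      center_cube hF ((QuotientGroup.eq_one_iff _).mp hS), one_pow]
  obtain ⟨l, l0, hl⟩ := scalar_comm hF (A := A) (B := X) (by rw [hπA]; exact hc)
  have hA4' : ∀ v, mat A *ᵥ (mat A *ᵥ (mat A *ᵥ (mat A *ᵥ v))) = v := fun v => by
    have := congrArg (fun g => mat g *ᵥ v) hA4
    simpa only [pow_succ, pow_zero, one_mul, mat_mul, ← mulVec_mulVec, mat_one, one_mulVec] using this
  have l1 : l = 1 := by
    set w : V := mat X *ᵥ Pi.single 0 1
    have e : w = (l ^ 4) • w := by
      have := hA4' (mat X *ᵥ Pi.single 0 1)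
      simp only [hl, mulVec_smul, hA4', smul_smul] at this
      rw [show l ^ 4 = l * l * l * l by ring]
      exact this.symm
    have hw : w ≠ 0 := mat_ne_zero X (fun q => one_ne_zero (α := F) (by simpa using congrFun q 0))
    have e4 : l ^ 4 = 1 := (smul_left_injective F hw (show (l ^ 4) • w = (1 : F) • w by rw [one_smul]; exact e.symm))
    rw [pow_succ, cube hF l0, one_mul] at e4
    exact e4
  refine hs2 ?_
  rw [← hπA, ← map_pow, irred_sq hF c0 hc1 hX (fun v => by rw [hl, l1, one_smul]) hA4, map_one]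

/-- A frame of eigenvectors. -/
theorem exists_eigen_frame (X : Cfsg.SU 6 F 2) (hX : ∀ v, mat X *ᵥ (mat X *ᵥ (mat X *ᵥ v)) = v) :
    ∃ v : Fin 6 → V, IsFrame v ∧ ∀ i, ∃ l : F, mat X *ᵥ v i = l • v i := by
  classical
  obtain ⟨z, z0, z1, hz, hs, -⟩ := exists_zeta hF
  have key : ∀ k, k ≤ 6 → ∃ S : Finset V, ON S ∧ (∀ s ∈ S, ∃ l : F, mat X *ᵥ s = l • s) ∧ k ≤ S.card := by
    intro k
    induction k with
    | zero => exact fun _ => ⟨∅, by simp [ON], by simp, Nat.zero_le _⟩
    | succ k ih =>
      intro hk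
      obtain ⟨S, hS, heig, hc⟩ := ih (by omega)
      by_cases h6 : k + 1 ≤ S.card
      · exact ⟨S, hS, heig, h6⟩
      obtain ⟨p, p0, hp⟩ := exists_perp hF hS (by omega)
      have hXP : ∀ x : V, (∀ s ∈ S, h x s = 0) → ∀ s ∈ S, h (mat X *ᵥ x) s = 0 := fun x hx s hs' => by
        obtain ⟨l, hl⟩ := heig s hs'
        have hl0 : l ≠ 0 := fun e => by
          refine mat_ne_zero X (fun q : s = 0 => ?_) (by rw [hl, e, zero_smul])
          have := hS s hs' s hs'
          rw [q, h_zero_left hF, if_pos rfl] at this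
          exact zero_ne_one this
        have h1 : h (mat X *ᵥ x) (mat X *ᵥ s) = 0 := by rw [su_h, hx s hs']
        rw [hl, h_smul_right hF] at h1
        exact (mul_eq_zero.mp h1).resolve_left ((map_ne_zero _).mpr hl0)
      have hproj : ∀ l : F, ∀ x : V, (∀ s ∈ S, h x s = 0) → ∀ s ∈ S, h (ThreeEigen.proj X l x) s = 0 :=
        fun l x hx s hs' => by
          simp only [ThreeEigen.proj, h_add_left, h_smul_left, hx s hs', hXP x hx s hs', hXP _ (hXP x hx) s hs',
            mul_zero, add_zero]
      obtain ⟨l, l0, hl⟩ : ∃ l : F, l ≠ 0 ∧ ThreeEigen.proj X l p ≠ 0 := by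
        by_contra hne
        push Not at hne
        apply p0
        rw [← ThreeEigen.proj_sum hF X hX hz p, hne 1 one_ne_zero, hne z z0, hne (z * z) (mul_ne_zero z0 z0)]
        simp
      set u := ThreeEigen.proj X l p
      have huS := hproj l p hp
      have huE : u ∈ ThreeEigen.eig X l := ThreeEigen.proj_mem hF X hX l0 p
      obtain ⟨y, hyS, huy, hyu⟩ := perp_partner hF hS hl huS
      have hwS := hproj l y hyS
      have hwE : ThreeEigen.proj X l y ∈ ThreeEigen.eig X l := ThreeEigen.proj_mem hF X hX l0 y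
      have hwu : h (ThreeEigen.proj X l y) u = 1 := by
        have e := ThreeEigen.proj_sum hF X hX hz y
        have o : ∀ m : F, m ≠ 0 → m ≠ l → h (ThreeEigen.proj X m y) u = 0 := fun m hm hml =>
          ThreeEigen.orth hF X hm l0 hml (ThreeEigen.proj_mem hF X hX hm y) huE
        have hy' : h (ThreeEigen.proj X 1 y) u + h (ThreeEigen.proj X z y) u + h (ThreeEigen.proj X (z * z) y) u = 1 := by
          rw [← h_add_left, ← h_add_left, e, hyu]
        have d1 : (1 : F) ≠ z * z := fun e' => z1 (by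
          linear_combination (z - 1) * hz + z * e')
        have d2 : z ≠ z * z := fun e' => z1 (mul_left_cancel₀ z0 (by rw [← e', mul_one]))
        rcases ThreeEigen.units_cases hF hz l0 with rfl | rfl | rfl
        · rwa [o z z0 z1, o _ (mul_ne_zero z0 z0) d1.symm, add_zero, add_zero] at hy'
        · rwa [o 1 one_ne_zero z1.symm, o _ (mul_ne_zero z0 z0) d2.symm, zero_add, add_zero] at hy'
        · rwa [o 1 one_ne_zero d1, o _ z0 d2, zero_add, zero_add] at hy'
      obtain ⟨x, hxS, hxE, hxx⟩ : ∃ x : V, (∀ s ∈ S, h x s = 0) ∧ x ∈ ThreeEigen.eig X l ∧ h x x = 1 := by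
        rcases ThreeEigen.h_self_cases hF u with a | a
        · rcases ThreeEigen.h_self_cases hF (ThreeEigen.proj X l y) with b | b
          · refine ⟨ThreeEigen.proj X l y + z • u, fun s hs' => by
              rw [h_add_left, h_smul_left, hwS s hs', huS s hs', mul_zero, add_zero],
              add_mem hwE (Submodule.smul_mem _ _ huE), ?_⟩
            rw [h_add_left, h_add_right hF, h_add_right hF, h_smul_left, h_smul_right hF, h_smul_right hF, h_smul_left,
              a, b, hwu, ← h_swap hF _ u, hwu, map_one, hs]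
            linear_combination hz - two_zero hF
          · exact ⟨_, hwS, hwE, b⟩
        · exact ⟨_, huS, huE, a⟩
      have hxn : x ∉ S := fun e => by rw [hxS x e] at hxx; exact zero_ne_one hxx
      refine ⟨insert x S, ?_, ?_, by rw [Finset.card_insert_of_notMem hxn]; omega⟩
      · intro s hs' t ht
        simp only [Finset.mem_insert] at hs' ht
        rcases hs' with rfl | hs' <;> rcases ht with rfl | ht
        · rw [if_pos rfl, hxx]
        · rw [hxS t ht, if_neg (fun e : _ = t => hxn (by rw [e]; exact ht))]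
        · rw [← h_swap hF, hxS s hs', map_zero, if_neg (fun e : s = _ => hxn (by rw [← e]; exact hs'))]
        · exact hS s hs' t ht
      · intro s hs'
        simp only [Finset.mem_insert] at hs'
        rcases hs' with rfl | hs'
        exacts [⟨l, hxE⟩, heig s hs']
  obtain ⟨S, hS, heig, hc⟩ := key 6 le_rfl
  have h6 : S.card = 6 := le_antisymm (ON.card_le hF hS) hc
  let e : Fin 6 ≃ S := (Finset.equivFinOfCardEq h6).symm
  refine ⟨fun i => (e i : V), fun i j => ?_, fun i => heig _ (e i).2⟩
  rw [hS _ (e i).2 _ (e j).2]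
  by_cases q : i = j
  · subst q; simp
  · rw [if_neg q, if_neg fun r => q (e.injective (Subtype.ext r))]

/-- An element of order three centralised by one of order four commutes with an abelian group of order eighty-one. -/
theorem exists_abelian {x s : Cfsg.PSU 6 F 2} (hx : x ^ 3 = 1) (hs : s ^ 4 = 1) (hs2 : s ^ 2 ≠ 1)
    (hc : Commute s x) : ∃ E : Subgroup (Cfsg.PSU 6 F 2), 81 ∣ Nat.card E ∧ (∀ e ∈ E, e ^ 3 = 1) ∧
      (∀ e ∈ E, ∀ e' ∈ E, Commute e e') ∧ ∀ e ∈ E, Commute e x := by
  obtain ⟨X, rfl, hX⟩ := exists_cube_lift hF hx hs hs2 hc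
  obtain ⟨v, hv, heig⟩ := exists_eigen_frame hF X hX
  obtain ⟨z, -, -, hz, -, -⟩ := exists_zeta hF
  obtain ⟨h81, h3, hab⟩ := diag_image hF hv hz
  refine ⟨(diagSub hF hv hz).map π, h81, h3, hab, ?_⟩
  rintro _ ⟨_, ⟨a, rfl⟩, rfl⟩
  show π _ * π X = π X * π _
  rw [← map_mul, ← map_mul]
  refine congrArg π (frame_ext hF hv fun i => ?_)
  obtain ⟨l, hl⟩ := heig i
  simp only [mat_mul, ← mulVec_mulVec, mono_apply hF hv hz, mulVec_smul, hl, Equiv.Perm.one_apply]
  exact smul_comm _ _ _

variable {v : Fin 6 → (Fin 6 → F)} (hv : IsFrame v) {z : F} (hz : z * z + z + 1 = 0)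
include hv hz

theorem eig_split (x : V) : ∃ a b : V, mat (g0 hF hv hz) *ᵥ a = z • a ∧ mat (g0 hF hv hz) *ᵥ b = b ∧ x = a + b := by
  have hx : colM v *ᵥ ((frameGU hF hv)⁻¹.1.1 *ᵥ x) = x := gu_inv_mulVec (frameGU hF hv) x
  rw [colM_mulVec hF] at hx
  set c := (frameGU hF hv)⁻¹.1.1 *ᵥ x
  refine ⟨∑ i, (if i.val < 3 then c i else 0) • v i, ∑ i, (if i.val < 3 then 0 else c i) • v i, ?_, ?_, ?_⟩
  · simp only [mulVec_sum, mulVec_smul, g0, mono_apply hF hv hz, Equiv.Perm.one_apply, Finset.smul_sum]
    refine Finset.sum_congr rfl fun i _ => ?_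
    by_cases d : i.val < 3 <;> simp [half, d, zp, smul_smul, mul_comm, show (1 : ZMod 3).val = 1 from rfl]
  · simp only [mulVec_sum, mulVec_smul, g0, mono_apply hF hv hz, Equiv.Perm.one_apply]
    refine Finset.sum_congr rfl fun i _ => ?_
    by_cases d : i.val < 3 <;> simp [half, d, zp]
  · rw [← Finset.sum_add_distrib]
    refine hx.symm.trans (Finset.sum_congr rfl fun i _ => ?_)
    by_cases d : i.val < 3 <;> simp [d]

theorem eig_dim {l : F} (hl : l = z ∨ l = 1) : Module.finrank F (ThreeEigen.eig (g0 hF hv hz) l) ≤ 3 := by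
  have h2 := two_zero hF
  have z1 : z ≠ 1 := fun e => by rw [e] at hz; exact one_ne_zero (α := F) (by linear_combination hz - h2)
  let P : Finset (Fin 6) := if l = z then Finset.univ.filter (fun i => i.val < 3) else
    Finset.univ.filter (fun i => ¬ i.val < 3)
  have hP : P.card = 3 := by
    simp only [P]; split_ifs <;> decide
  have hsub : ThreeEigen.eig (g0 hF hv hz) l ≤ Submodule.span F ((P.image v : Finset V) : Set V) := by
    intro x hx
    rw [ThreeEigen.mem_eig] at hx
    have hxx : colM v *ᵥ ((frameGU hF hv)⁻¹.1.1 *ᵥ x) = x := gu_inv_mulVec (frameGU hF hv) x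
    rw [colM_mulVec hF] at hxx
    set c := (frameGU hF hv)⁻¹.1.1 *ᵥ x
    rw [← hxx]
    refine Submodule.sum_mem _ fun i _ => ?_
    by_cases d : i ∈ P
    · exact Submodule.smul_mem _ _ (Submodule.subset_span (Finset.mem_coe.mpr (Finset.mem_image_of_mem v d)))
    · have hci : c i = 0 := by
        have e : h x (v i) = c i := by
          rw [← hxx, h_sum hF, Finset.sum_eq_single i (fun j _ hj => by rw [hv j i, if_neg hj, mul_zero])
            (fun e => absurd (Finset.mem_univ i) e), hv i i, if_pos rfl, mul_one]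
        have e1 := su_h (g0 hF hv hz) x (v i)
        rw [hx] at e1
        simp only [g0, mono_apply hF hv hz, Equiv.Perm.one_apply, h_smul_left, h_smul_right hF, e] at e1
        have hne : l * σ (zp z (half i)) ≠ 1 := by
          rcases hl with q | q
          · simp [P, q] at d
            have : half i = 0 := by rw [half, if_neg (by omega)]
            rw [this, q]
            simpa [zp] using z1
          · simp [P, q, Ne.symm z1] at d
            have : half i = 1 := by rw [half, if_pos (by omega)]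
            rw [this, q, one_mul]
            intro e'
            exact z1 (by simpa [zp, frob_frob, show (1 : ZMod 3).val = 1 from rfl] using congrArg σ e')
        have : (l * σ (zp z (half i)) - 1) * c i = 0 := by rw [sub_mul, one_mul, sub_eq_zero, mul_assoc, mul_left_comm]; exact e1
        exact (mul_eq_zero.mp this).resolve_left (sub_ne_zero.mpr hne)
      rw [hci, zero_smul]
      exact zero_mem _
  exact (Submodule.finrank_mono hsub).trans
    ((finrank_span_finset_le_card (R := F) _).trans (Finset.card_image_le.trans hP.le))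

/-- An involution commuting with the class and with two elements over it with commutator the class is a transvection. -/
theorem small_rank {k a b : Cfsg.PSU 6 F 2} (hk : k * k = 1) (hk1 : k ≠ 1) (hkc : Commute k (cls hF hv hz))
    (hac : Commute a (cls hF hv hz)) (hbc : Commute b (cls hF hv hz)) (hka : Commute k a) (hkb : Commute k b)
    (hab : a * b = cls hF hv hz * (b * a)) : ∃ u : V, u ≠ 0 ∧ h u u = 0 ∧ k = π (tu hF u) := by
  classical
  have h2 := two_zero hF
  have z0 : z ≠ 0 := fun e => by rw [e] at hz; simp at hz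
  have z1 : z ≠ 1 := fun e => by rw [e] at hz; exact one_ne_zero (α := F) (by linear_combination hz - h2)
  set T := g0 hF hv hz
  have hT3 : ∀ x, mat T *ᵥ (mat T *ᵥ (mat T *ᵥ x)) = x := fun x => by
    obtain ⟨p, q, hp, hq, rfl⟩ := eig_split hF hv hz x
    simp only [T, mulVec_add, hq, hp, mulVec_smul, smul_smul]
    rw [ThreeEigen.cube' hF z0, one_smul]
  obtain ⟨K, hK, rfl⟩ := exists_lift hF hk
  obtain ⟨A, rfl⟩ := QuotientGroup.mk'_surjective _ a
  obtain ⟨B, rfl⟩ := QuotientGroup.mk'_surjective _ b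
  have cTK : Commute T K := of_mk_commute hF hK hkc.symm
  have cAK : Commute A K := of_mk_commute hF hK hka.symm
  have cBK : Commute B K := of_mk_commute hF hK hkb.symm
  have mv : ∀ {P Q : Cfsg.SU 6 F 2}, Commute P Q → ∀ x, mat P *ᵥ (mat Q *ᵥ x) = mat Q *ᵥ (mat P *ᵥ x) :=
    fun {P Q} e x => by rw [mulVec_mulVec, mulVec_mulVec, ← mat_mul, ← mat_mul, e.eq]
  -- the eigenspaces are kept
  have noeig : ∀ x, mat T *ᵥ x = (z * z) • x → x = 0 := fun x hx => by
    have hzz1 : z * z ≠ 1 := fun e => z0 (by linear_combination hz - e - h2)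
    have hzz2 : z * z ≠ z := fun e => z1 (mul_left_cancel₀ z0 (by rw [e, mul_one]))
    refine h_nondeg hF fun y => ?_
    obtain ⟨p, q, hp, hq, rfl⟩ := eig_split hF hv hz y
    rw [h_add_right hF, ThreeEigen.orth hF T (mul_ne_zero z0 z0) z0 hzz2 hx hp,
      ThreeEigen.orth hF T (mul_ne_zero z0 z0) one_ne_zero hzz1 hx (show mat T *ᵥ q = (1 : F) • q by rw [one_smul, hq]),
      add_zero]
  have keep : ∀ {P : Cfsg.SU 6 F 2}, Commute (π P) (π T) → ∀ x, mat P *ᵥ (mat T *ᵥ x) = mat T *ᵥ (mat P *ᵥ x) :=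
    fun {P} hP => by
    obtain ⟨l, l0, hl⟩ := scalar_comm hF hP
    suffices l = 1 by intro x; rw [hl, this, one_smul]
    have vv : ∀ i, v i ≠ 0 := v_ne hF hv hz
    have e0 := hl (v 0)
    have e3 := hl (v 3)
    simp only [T, g0, mono_apply hF hv hz, Equiv.Perm.one_apply, mulVec_smul] at e0 e3
    have h0 : half (0 : Fin 6) = 1 := by decide
    have h3' : half (3 : Fin 6) = 0 := by decide
    rw [h0] at e0; rw [h3'] at e3
    simp only [zp, ZMod.val_zero, pow_zero, one_smul, show (1 : ZMod 3).val = 1 from rfl, pow_one] at e0 e3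
    by_contra hne
    rcases ThreeEigen.units_cases hF hz l0 with r | r | r
    · exact hne r
    · subst r
      -- the image of the second space
      refine mat_ne_zero P (vv 3) (noeig _ ?_)
      conv_rhs => rw [e3]
      rw [smul_smul, show l * l * l = 1 from ThreeEigen.cube' hF l0, one_smul]
      rfl
    · refine mat_ne_zero P (vv 0) (noeig _ ?_)
      have e : mat T *ᵥ (mat P *ᵥ v 0) = (l * l * z) • (mat P *ᵥ v 0) := by
        have := congrArg ((l * l) • ·) e0
        simp only [smul_smul] at this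
        rw [ThreeEigen.cube' hF l0, one_smul] at this
        exact this.symm
      rw [show T = g0 hF hv hz from rfl] at e
      show mat (g0 hF hv hz) *ᵥ (mat P *ᵥ v 0) = _
      rw [e, r]
      congr 1
      linear_combination (z * z) * ThreeEigen.cube' hF z0
  have keepA := keep (P := A) hac
  have keepB := keep (P := B) hbc
  -- the nilpotent part
  set N : V → V := fun x => mat K *ᵥ x + x with hN
  have hKK : ∀ x, mat K *ᵥ (mat K *ᵥ x) = x := fun x => by rw [mulVec_mulVec, ← mat_mul, hK, mat_one, one_mulVec]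
  have hswap : ∀ p q, h (mat K *ᵥ p) q = h p (mat K *ᵥ q) := fun p q => by rw [← su_h K (mat K *ᵥ p) q, hKK]
  have Nsym : ∀ p q, h (N p) q = h p (N q) := fun p q => by simp only [hN, h_add_left, h_add_right hF, hswap]
  have NN : ∀ p, N (N p) = 0 := fun p => by
    simp only [hN, mulVec_add, hKK]
    rw [add_comm (mat K *ᵥ p) p, vadd_self hF]
  have Niso : ∀ p q, h (N p) (N q) = 0 := fun p q => by rw [Nsym, NN, h_zero_right hF]
  have Nadd : ∀ p q, N (p + q) = N p + N q := fun p q => by simp only [hN, mulVec_add]; abel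
  have Nsmul : ∀ (c : F) p, N (c • p) = c • N p := fun c p => by simp only [hN, mulVec_smul, smul_add]
  have NP : ∀ {P : Cfsg.SU 6 F 2}, Commute P K → ∀ x, mat P *ᵥ N x = N (mat P *ᵥ x) := fun {P} hP x => by
    simp only [hN, mulVec_add, mv hP]
  -- on each eigenspace the image is at most a line
  have line : ∀ l : F, l = z ∨ l = 1 → ∀ {p : V}, mat T *ᵥ p = l • p → N p ≠ 0 →
      ∀ {q : V}, mat T *ᵥ q = l • q → ∃ c : F, N q = c • N p := by
    intro l hl p hp hne q hq
    have l0 : l ≠ 0 := by rcases hl with rfl | rfl; exacts [z0, one_ne_zero]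
    by_contra hno
    push Not at hno
    refine ThreeEigen.no_pair hF T hT3 l0 (eig_dim hF hv hz hl) (u := N p) (w := N q)
      (show mat T *ᵥ N p = l • N p by rw [NP cTK, hp, Nsmul])
      (show mat T *ᵥ N q = l • N q by rw [NP cTK, hq, Nsmul]) (Niso _ _) (Niso _ _) (Niso _ _) ?_
    rw [LinearIndependent.pair_iff]
    intro c d e
    by_cases d0 : d = 0
    · subst d0
      rw [zero_smul, add_zero] at e
      exact ⟨(smul_eq_zero.mp e).resolve_right hne, rfl⟩
    · exfalso
      refine hno (-(d⁻¹ * c)) ?_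
      have e2 : d • N q = -(c • N p) := eq_neg_of_add_eq_zero_right e
      calc N q = d⁻¹ • (d • N q) := by rw [smul_smul, inv_mul_cancel₀ d0, one_smul]
        _ = _ := by rw [e2, smul_neg, smul_smul, neg_smul]
  -- the commutator
  obtain ⟨Z, hZ, hzc⟩ := (QuotientGroup.mk'_eq_mk' _).mp (show π (T * (B * A)) = π (A * B) by
    rw [map_mul, map_mul, map_mul]; exact hab.symm)
  obtain ⟨c, c0, hc⟩ := center_smul hF hZ
  have hcom : ∀ x, mat A *ᵥ (mat B *ᵥ x) = c • (mat T *ᵥ (mat B *ᵥ (mat A *ᵥ x))) := fun x => by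
    have := congrArg (fun g => mat g *ᵥ x) hzc.symm
    simp only [mat_mul, ← mulVec_mulVec, hc, mulVec_smul] at this
    exact this
  have scal : ∀ l : F, l = z ∨ l = 1 → ∀ {p : V}, mat T *ᵥ p = l • p → N p ≠ 0 → c * l = 1 := by
    intro l hl p hp hne
    have hpA : mat T *ᵥ (mat A *ᵥ p) = l • (mat A *ᵥ p) := by rw [← keepA, hp, mulVec_smul]
    have hpB : mat T *ᵥ (mat B *ᵥ p) = l • (mat B *ᵥ p) := by rw [← keepB, hp, mulVec_smul]
    obtain ⟨α, hα⟩ := line l hl hp hne hpA
    obtain ⟨β, hβ⟩ := line l hl hp hne hpB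
    rw [← NP cAK] at hα
    rw [← NP cBK] at hβ
    have e := hcom (N p)
    rw [hβ, mulVec_smul, hα, mulVec_smul, hβ, mulVec_smul, mulVec_smul,
      show mat T *ᵥ N p = l • N p by rw [NP cTK, hp, Nsmul], smul_smul, smul_smul, smul_smul, smul_smul] at e
    have e' : (β * α : F) = c * (α * β * l) := smul_left_injective F hne (by simpa [mul_assoc] using e)
    have hα0 : α ≠ 0 := fun q => mat_ne_zero A hne (by rw [hα, q, zero_smul])
    have hβ0 : β ≠ 0 := fun q => mat_ne_zero B hne (by rw [hβ, q, zero_smul])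
    refine mul_right_cancel₀ (mul_ne_zero hα0 hβ0) ?_
    linear_combination -e'
  -- one eigenspace is killed, so the image is a line
  obtain ⟨p, l, hl, hp, hpne⟩ : ∃ (p : V) (l : F), (l = z ∨ l = 1) ∧ mat T *ᵥ p = l • p ∧ N p ≠ 0 := by
    by_contra hno
    push Not at hno
    refine hk1 ((congrArg π (su_ext fun x => ?_)).trans (map_one π))
    obtain ⟨a', b', ha', hb', rfl⟩ := eig_split hF hv hz x
    have e1 := hno a' z (Or.inl rfl) ha'
    have e2 := hno b' 1 (Or.inr rfl) (by rw [one_smul, hb'])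
    have e : N (a' + b') = 0 := by rw [Nadd, e1, e2, add_zero]
    rw [mat_one, one_mulVec]
    have := congrArg (· + (a' + b')) e
    simpa [hN, add_assoc, vadd_self hF] using this
  have hall : ∀ x, ∃ d : F, N x = d • N p := fun x => by
    obtain ⟨a', b', ha', hb', rfl⟩ := eig_split hF hv hz x
    rcases hl with rfl | rfl
    · obtain ⟨d, hd⟩ := line _ (Or.inl rfl) hp hpne ha'
      refine ⟨d, ?_⟩
      have : N b' = 0 := by
        by_contra q
        have e1 := scal _ (Or.inl rfl) hp hpne
        have e2 := scal 1 (Or.inr rfl) (show mat T *ᵥ b' = (1 : F) • b' by rw [one_smul, hb']) q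
        rw [mul_one] at e2
        rw [e2, one_mul] at e1
        exact z1 e1
      rw [Nadd, hd, this, add_zero]
    · obtain ⟨d, hd⟩ := line 1 (Or.inr rfl) hp hpne (show mat T *ᵥ b' = (1 : F) • b' by rw [one_smul, hb'])
      refine ⟨d, ?_⟩
      have : N a' = 0 := by
        by_contra q
        have e1 := scal z (Or.inl rfl) ha' q
        have e2 := scal 1 (Or.inr rfl) hp hpne
        rw [mul_one] at e2
        rw [e2, one_mul] at e1
        exact z1 e1
      rw [Nadd, hd, this, zero_add]
  set u := N p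
  obtain ⟨y, hy⟩ := exists_dual hF hpne
  refine ⟨u, hpne, Niso p p, congrArg π (su_ext fun x => ?_)⟩
  obtain ⟨e, he⟩ := hall y
  obtain ⟨d, hd⟩ := hall x
  have huy : h u y = 1 := by rw [← h_swap hF y u, hy, map_one]
  have hd' : d = σ e * h x u := by
    have := Nsym x y
    rw [hd, he, h_smul_left, h_smul_right hF, huy, mul_one] at this
    exact this
  have he1 : e = 1 := by
    have := Nsym y y
    rw [he, h_smul_left, h_smul_right hF, huy, hy, mul_one, mul_one] at this
    refine (fixed hF this.symm).resolve_left fun q => hpne ?_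
    obtain ⟨d', hd''⟩ := hall p
    have hd''' : d' = σ e * h p u := by
      have := Nsym p y
      rw [hd'', he, h_smul_left, h_smul_right hF, huy, mul_one] at this
      exact this
    rw [hd''', q, map_zero, zero_mul, zero_smul] at hd''
    exact hd''
  rw [tu_mulVec hF (Niso p p)]
  rw [hd', he1, map_one, one_mul] at hd
  have := congrArg (· + x) hd
  simp only [hN, add_assoc, vadd_self hF, add_zero] at this
  rw [this, add_comm]

end CfsgLib.Fi22Loc.Geom
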