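import Cfsg.Agent.Lib.Fi22Loc.Geom.Ortho
import Cfsg.Prelude.Def_LieTypeDatum

/-!
The monomial group of a frame in the unitary group of dimension six over four elements and the classes of elements of
order three with two eigenspaces of dimension three.
-/

set_option autoImplicit false
set_option linter.unusedSectionVars false
set_option synthInstance.maxSize 1024

namespace CfsgLib.Fi22Loc.Geom

open Matrix CfsgLib CfsgLib.UnitaryTransvection CfsgLib.UnitarySimple CfsgThreeTrans.M22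

variable {F : Type} [Field F] [Fintype F] [DecidableEq F] (hF : Fintype.card F = 2 ^ 2)

local notation "h" => Cfsg.hermForm 6 F 2
local notation "σ" => frob hF
local notation "V" => (Fin 6 → F)
local notation "π" => QuotientGroup.mk' (Subgroup.center (Cfsg.SU 6 F 2))

/-- The matrix with the given columns. -/
def colM (v : Fin 6 → V) : Matrix (Fin 6) (Fin 6) F := Matrix.of fun r i => v i r

/-- The two cycles. -/
def p9 (k : ZMod 3 × ZMod 3) : Equiv.Perm (Fin 6) :=
  (Equiv.swap 0 1 * Equiv.swap 1 2) ^ k.1.val * (Equiv.swap 3 4 * Equiv.swap 4 5) ^ k.2.val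

/-- The exchange of the halves. -/
def pSwap : Equiv.Perm (Fin 6) := Equiv.swap 0 3 * Equiv.swap 1 4 * Equiv.swap 2 5

/-- The indicator of the first half. -/
def half (i : Fin 6) : ZMod 3 := if i.val < 3 then 1 else 0

theorem p9_facts : p9 0 = 1 ∧ (∀ k l, p9 (k + l) = p9 k * p9 l) ∧ (∀ k l, p9 k = p9 l → k = l) ∧
    (∀ k i, half (p9 k i) = half i) := by
  decide +kernel

theorem half_sum : ∑ i, half i = 0 ∧ (∀ i, half (pSwap i) = 1 + -half i) ∧ pSwap⁻¹ = pSwap := by decide +kernel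

theorem half_cases : ∀ A : Finset (Fin 6), A.card = 3 → ∃ e : Equiv.Perm (Fin 6), ∀ i, i.val < 3 ↔ e i ∈ A := by
  decide +kernel

theorem dvd_of_small {k c n m : ℕ} (hk : k ≤ 3) (e : k * c = n) (hn : n = 3 * m) (hm : m % 2 = 1) : m ∣ c := by
  rcases (show k = 0 ∨ k = 1 ∨ k = 2 ∨ k = 3 by omega) with rfl | rfl | rfl | rfl
  · omega
  · exact ⟨3, by omega⟩
  · omega
  · exact ⟨1, by omega⟩

/-- The powers of the cube root. -/
def zp (z : F) (a : ZMod 3) : F := z ^ a.val

include hF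

theorem colM_mulVec (v : Fin 6 → V) (u : V) : colM v *ᵥ u = ∑ i, u i • v i := by
  funext r
  simp [colM, Matrix.mulVec, dotProduct, Finset.sum_apply, mul_comm]

theorem colM_single (v : Fin 6 → V) (i : Fin 6) : colM v *ᵥ Pi.single i 1 = v i := by
  rw [mulVec_single_one]; rfl

theorem h_sum_right {ι : Type} (S : Finset ι) (a : ι → F) (w : ι → V) (y : V) :
    h y (∑ i ∈ S, a i • w i) = ∑ i ∈ S, σ (a i) * h y (w i) := by
  classical
  induction S using Finset.induction with
  | empty => simp [h_zero_right hF]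
  | insert i S hi ih => rw [Finset.sum_insert hi, Finset.sum_insert hi, h_add_right hF, h_smul_right hF, ih]

theorem colM_iso {v : Fin 6 → V} (hv : IsFrame v) (u w : V) : h (colM v *ᵥ u) (colM v *ᵥ w) = h u w := by
  rw [colM_mulVec hF, colM_mulVec hF, h_sum hF]
  refine Finset.sum_congr rfl fun i _ => ?_
  rw [h_sum_right hF, Finset.sum_eq_single i (fun j _ hj => by rw [hv i j, if_neg (Ne.symm hj), mul_zero])
    (fun e => absurd (Finset.mem_univ i) e), hv i i, if_pos rfl, mul_one, frob_apply]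

/-- The unitary matrix of a frame. -/
noncomputable def frameGU {v : Fin 6 → V} (hv : IsFrame v) : Cfsg.GU 6 F 2 := mkGU hF (colM v) (colM_iso hF hv)

theorem frame_ext {v : Fin 6 → V} (hv : IsFrame v) {g k : Cfsg.SU 6 F 2}
    (e : ∀ i, mat g *ᵥ v i = mat k *ᵥ v i) : g = k := su_ext fun x => by
  have hx : colM v *ᵥ ((frameGU hF hv)⁻¹.1.1 *ᵥ x) = x := gu_inv_mulVec (frameGU hF hv) x
  rw [← hx, colM_mulVec hF]
  simp only [mulVec_sum, mulVec_smul, e]

theorem zp_add {z : F} (hz : z * z + z + 1 = 0) (a b : ZMod 3) : zp z (a + b) = zp z a * zp z b := by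
  have h3 : z ^ 3 = 1 := by linear_combination (z - 1) * hz
  rw [zp, zp, zp, ← pow_add, ZMod.val_add, ← pow_eq_pow_mod _ h3]

theorem zp_inj {z : F} (hz : z * z + z + 1 = 0) : Function.Injective (zp z) := by
  have h2 := two_zero hF
  have z0 : z ≠ 0 := fun e => by rw [e] at hz; simp at hz
  have z1 : z ≠ 1 := fun e => by rw [e] at hz; exact one_ne_zero (α := F) (by linear_combination hz - h2)
  have zz : z * z ≠ z := fun e => z1 (mul_left_cancel₀ z0 (by rw [e, mul_one]))
  have z11 : z * z ≠ 1 := fun e => z0 (by linear_combination hz - e - h2)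
  intro a b e
  fin_cases a <;> fin_cases b <;> first
    | rfl
    | (exfalso; simp [zp, ZMod.val, pow_two] at e; first
        | exact z1 e | exact z1 e.symm | exact zz e | exact zz e.symm | exact z11 e | exact z11 e.symm)

theorem zp_sum {z : F} (hz : z * z + z + 1 = 0) (a : Fin 6 → ZMod 3) : ∏ i, zp z (a i) = zp z (∑ i, a i) := by
  have h0 : zp z 0 = 1 := by simp [zp]
  simp only [Fin.prod_univ_six, Fin.sum_univ_six, zp_add hF hz]

theorem zp_norm {z : F} (hz : z * z + z + 1 = 0) (a : ZMod 3) : zp z a ^ (2 + 1) = 1 := by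
  have h3 : z ^ 3 = 1 := by linear_combination (z - 1) * hz
  rw [zp, ← pow_mul, mul_comm, pow_mul, h3, one_pow]

/-- The inner matrix. -/
noncomputable def wMat (z : F) (a : Fin 6 → ZMod 3) (p : Equiv.Perm (Fin 6)) : Matrix (Fin 6) (Fin 6) F :=
  diagonal (fun i => zp z (a i)) * (p⁻¹).permMatrix F

theorem wMat_single (z : F) (a : Fin 6 → ZMod 3) (p : Equiv.Perm (Fin 6)) (i : Fin 6) :
    wMat z a p *ᵥ Pi.single i 1 = Pi.single (p i) (zp z (a (p i))) := by
  funext r
  rw [wMat, ← mulVec_mulVec, mulVec_diagonal, Matrix.permMatrix_mulVec]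
  simp only [Function.comp_apply]
  by_cases q : r = p i
  · subst q; simp
  · rw [Pi.single_eq_of_ne q, Pi.single_eq_of_ne (fun e : p⁻¹ r = i => q (by rw [← e]; simp)), mul_zero]

theorem wMat_iso {z : F} (hz : z * z + z + 1 = 0) (a : Fin 6 → ZMod 3) (p : Equiv.Perm (Fin 6)) (u w : V) :
    h (wMat z a p *ᵥ u) (wMat z a p *ᵥ w) = h u w := by
  rw [wMat, ← mulVec_mulVec, ← mulVec_mulVec, UnitaryBasic.diag_preserves (fun i => zp_norm hF hz (a i)),
    UnitaryBasic.perm_preserves]

theorem wMat_det {z : F} (hz : z * z + z + 1 = 0) (a : Fin 6 → ZMod 3) (ha : ∑ i, a i = 0)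
    (p : Equiv.Perm (Fin 6)) : (wMat z a p).det = 1 := by
  rw [wMat, det_mul, det_diagonal, Matrix.det_permutation, zp_sum hF hz, ha]
  have h11 : (-1 : F) = 1 := by linear_combination -(two_zero hF)
  rcases Int.units_eq_one_or (Equiv.Perm.sign p⁻¹) with e | e <;> rw [e] <;> simp [zp, h11]

/-- A monomial element of a frame. -/
noncomputable def mono {v : Fin 6 → V} (hv : IsFrame v) {z : F} (hz : z * z + z + 1 = 0) (a : Fin 6 → ZMod 3)
    (ha : ∑ i, a i = 0) (p : Equiv.Perm (Fin 6)) : Cfsg.SU 6 F 2 :=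
  mkSU (colM v * wMat z a p * (frameGU hF hv)⁻¹.1.1)
    (fun x y => by
      rw [← mulVec_mulVec, ← mulVec_mulVec, ← mulVec_mulVec, ← mulVec_mulVec, colM_iso hF hv, wMat_iso hF hz, gu_h])
    (by
      rw [det_mul, det_mul, wMat_det hF hz a ha, mul_one, ← det_mul,
        show colM v * (frameGU hF hv)⁻¹.1.1 = 1 from by
          show (frameGU hF hv).1.1 * (frameGU hF hv)⁻¹.1.1 = 1
          exact_mod_cast (frameGU hF hv).1.mul_inv, det_one])

variable {v : Fin 6 → (Fin 6 → F)} (hv : IsFrame v) {z : F} (hz : z * z + z + 1 = 0)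
include hv hz

theorem mono_apply (a : Fin 6 → ZMod 3) (ha : ∑ i, a i = 0) (p : Equiv.Perm (Fin 6)) (i : Fin 6) :
    mat (mono hF hv hz a ha p) *ᵥ v i = zp z (a (p i)) • v (p i) := by
  show (colM v * wMat z a p * (frameGU hF hv)⁻¹.1.1) *ᵥ v i = _
  have e : (frameGU hF hv)⁻¹.1.1 *ᵥ v i = Pi.single i 1 := by
    conv_lhs => rw [← colM_single hF v i]
    rw [mulVec_mulVec, show (frameGU hF hv)⁻¹.1.1 * colM v = 1 from by
      show (frameGU hF hv)⁻¹.1.1 * (frameGU hF hv).1.1 = 1
      exact_mod_cast (frameGU hF hv).1.inv_mul, one_mulVec]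
  rw [← mulVec_mulVec, ← mulVec_mulVec, e, wMat_single hF, ← colM_single hF v (p i), ← mulVec_smul]
  congr 1
  funext r
  by_cases q : r = p i
  · subst q; simp
  · simp [Pi.single_eq_of_ne q]

theorem mono_mul (a b : Fin 6 → ZMod 3) (ha : ∑ i, a i = 0) (hb : ∑ i, b i = 0) (p q : Equiv.Perm (Fin 6))
    (hab : ∑ i, (a i + b (p⁻¹ i)) = 0) :
    mono hF hv hz a ha p * mono hF hv hz b hb q = mono hF hv hz (fun i => a i + b (p⁻¹ i)) hab (p * q) :=
  frame_ext hF hv fun i => by
    rw [mat_mul, ← mulVec_mulVec, mono_apply hF hv hz, mulVec_smul, mono_apply hF hv hz, mono_apply hF hv hz,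
      smul_smul, Equiv.Perm.mul_apply, zp_add hF hz, mul_comm]
    simp

theorem v_ne (i : Fin 6) : v i ≠ 0 := fun e => by
  have := hv i i
  rw [e, h_zero_left hF, if_pos rfl] at this
  exact zero_ne_one this

theorem v_line {c d : F} {i j : Fin 6} (hc : c ≠ 0) (e : c • v i = d • v j) : i = j ∧ c = d := by
  have h1 := congrArg (h · (v i)) e
  simp only [h_smul_left, hv i i, if_pos, mul_one, hv j i] at h1
  by_cases q : j = i
  · subst q; simp at h1; exact ⟨rfl, h1⟩
  · rw [if_neg q, mul_zero] at h1; exact absurd h1 hc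

theorem zp_ne (a : ZMod 3) : zp z a ≠ 0 := fun e => by
  have := zp_norm hF hz a
  rw [e] at this
  simp at this

theorem mono_inj {a b : Fin 6 → ZMod 3} {ha : ∑ i, a i = 0} {hb : ∑ i, b i = 0} {p q : Equiv.Perm (Fin 6)}
    (e : mono hF hv hz a ha p = mono hF hv hz b hb q) : a = b ∧ p = q := by
  have key : ∀ i, p i = q i ∧ a (p i) = b (q i) := fun i => by
    have := congrArg (fun g => mat g *ᵥ v i) e
    simp only [mono_apply hF hv hz] at this
    obtain ⟨h1, h2⟩ := v_line hF hv hz (zp_ne hF hv hz _) this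
    exact ⟨h1, zp_inj hF hz h2⟩
  have hpq : p = q := Equiv.ext fun i => (key i).1
  refine ⟨funext fun j => ?_, hpq⟩
  obtain ⟨h1, h2⟩ := key (p⁻¹ j)
  rw [← h1] at h2
  simpa using h2

theorem mono_const (c : ZMod 3) (hc : ∑ _i : Fin 6, c = 0) :
    mono hF hv hz (fun _ => c) hc 1 ∈ Subgroup.center (Cfsg.SU 6 F 2) :=
  Subgroup.mem_center_iff.mpr fun g => su_ext fun x => by
    have key : ∀ y, mat (mono hF hv hz (fun _ => c) hc 1) *ᵥ y = zp z c • y := fun y => by
      have hy : colM v *ᵥ ((frameGU hF hv)⁻¹.1.1 *ᵥ y) = y := gu_inv_mulVec (frameGU hF hv) y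
      conv_lhs => rw [← hy, colM_mulVec hF]
      conv_rhs => rw [← hy, colM_mulVec hF]
      simp only [mulVec_sum, mulVec_smul, mono_apply hF hv hz, Finset.smul_sum, Equiv.Perm.one_apply]
      exact Finset.sum_congr rfl fun i _ => smul_comm _ _ _
    rw [mat_mul, mat_mul, ← mulVec_mulVec, ← mulVec_mulVec, key, key, mulVec_smul]

/-- The element with two eigenspaces along a frame. -/
noncomputable def g0 : Cfsg.SU 6 F 2 := mono hF hv hz half half_sum.1 1

/-- Its class. -/
noncomputable def cls : Cfsg.PSU 6 F 2 := π (g0 hF hv hz)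

/-- The parameters of the monomial three-group. -/
abbrev Par : Type := {a : Fin 6 → ZMod 3 // ∑ i, a i = 0} × (ZMod 3 × ZMod 3)

/-- The monomial three-group. -/
noncomputable def monoSub : Subgroup (Cfsg.SU 6 F 2) where
  carrier := Set.range fun x : Par => mono hF hv hz x.1.1 x.1.2 (p9 x.2)
  one_mem' := ⟨(⟨0, by simp⟩, 0), frame_ext hF hv fun i => by
    simp only []
    rw [mono_apply hF hv hz, mat_one, one_mulVec, p9_facts.1]
    simp [zp]⟩
  mul_mem' := by
    rintro _ _ ⟨x, rfl⟩ ⟨y, rfl⟩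
    have hs : ∑ i, (x.1.1 i + y.1.1 ((p9 x.2)⁻¹ i)) = 0 := by
      rw [Finset.sum_add_distrib, x.1.2, Equiv.sum_comp (p9 x.2)⁻¹ y.1.1, y.1.2, add_zero]
    refine ⟨(⟨_, hs⟩, x.2 + y.2), ?_⟩
    simp only [mono_mul hF hv hz _ _ _ _ _ _ hs, p9_facts.2.1]
  inv_mem' := by
    rintro _ ⟨x, rfl⟩
    have hs : ∑ i, (-(x.1.1 (p9 x.2 i))) = 0 := by
      rw [Finset.sum_neg_distrib, Equiv.sum_comp (p9 x.2) x.1.1, x.1.2, neg_zero]
    refine ⟨(⟨_, hs⟩, -x.2), eq_inv_of_mul_eq_one_left (frame_ext hF hv fun i => ?_)⟩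
    have hp : p9 (-x.2) = (p9 x.2)⁻¹ :=
      eq_inv_of_mul_eq_one_left (by rw [← p9_facts.2.1, neg_add_cancel, p9_facts.1])
    simp only [mat_mul, ← mulVec_mulVec, mono_apply hF hv hz, mulVec_smul, smul_smul, mat_one, one_mulVec, hp]
    rw [← zp_add hF hz]
    simp [zp]

theorem card_monoSub : Nat.card (monoSub hF hv hz) = 2187 := by
  have hinj : Function.Injective fun x : Par => mono hF hv hz x.1.1 x.1.2 (p9 x.2) := fun x y e => by
    obtain ⟨e1, e2⟩ := mono_inj hF hv hz e
    exact Prod.ext (Subtype.ext e1) (p9_facts.2.2.1 _ _ e2)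
  rw [show Nat.card (monoSub hF hv hz) = Nat.card (Set.range fun x : Par => mono hF hv hz x.1.1 x.1.2 (p9 x.2)) from rfl,
    Nat.card_range_of_injective hinj, Nat.card_eq_fintype_card]
  decide +kernel

/-- The diagonal subgroup. -/
noncomputable def diagSub : Subgroup (Cfsg.SU 6 F 2) where
  carrier := Set.range fun a : {a : Fin 6 → ZMod 3 // ∑ i, a i = 0} => mono hF hv hz a.1 a.2 1
  one_mem' := ⟨⟨0, by simp⟩, frame_ext hF hv fun i => by
    simp only []
    rw [mono_apply hF hv hz, mat_one, one_mulVec]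
    simp [zp]⟩
  mul_mem' := by
    rintro _ _ ⟨x, rfl⟩ ⟨y, rfl⟩
    have hs : ∑ i, (x.1 i + y.1 ((1 : Equiv.Perm (Fin 6))⁻¹ i)) = 0 := by
      simp [Finset.sum_add_distrib, x.2, y.2]
    refine ⟨⟨_, hs⟩, ?_⟩
    simp only [mono_mul hF hv hz _ _ _ _ _ _ hs, mul_one]
  inv_mem' := by
    rintro _ ⟨x, rfl⟩
    have hs : ∑ i, (-(x.1 i)) = 0 := by rw [Finset.sum_neg_distrib, x.2, neg_zero]
    refine ⟨⟨_, hs⟩, eq_inv_of_mul_eq_one_left (frame_ext hF hv fun i => ?_)⟩
    simp only [mat_mul, ← mulVec_mulVec, mono_apply hF hv hz, mulVec_smul, smul_smul, mat_one, one_mulVec,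
      Equiv.Perm.one_apply]
    rw [← zp_add hF hz]
    simp [zp]

theorem card_diagSub : Nat.card (diagSub hF hv hz) = 243 := by
  have hinj : Function.Injective fun a : {a : Fin 6 → ZMod 3 // ∑ i, a i = 0} => mono hF hv hz a.1 a.2 1 :=
    fun x y e => Subtype.ext (mono_inj hF hv hz e).1
  rw [show Nat.card (diagSub hF hv hz) = Nat.card (Set.range fun a : {a : Fin 6 → ZMod 3 // ∑ i, a i = 0} =>
      mono hF hv hz a.1 a.2 1) from rfl, Nat.card_range_of_injective hinj, Nat.card_eq_fintype_card]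
  decide +kernel

/-- Central monomial elements are constant. -/
theorem center_mono {a : Fin 6 → ZMod 3} {ha : ∑ i, a i = 0} {p : Equiv.Perm (Fin 6)}
    (hc : mono hF hv hz a ha p ∈ Subgroup.center (Cfsg.SU 6 F 2)) : p = 1 ∧ ∀ i, a i = a 0 := by
  obtain ⟨t, ht⟩ := (SpectrumPowers.mk_eq_one_iff_SU hF (by norm_num) _).mp ((QuotientGroup.eq_one_iff _).mpr hc)
  have key : ∀ i, p i = i ∧ zp z (a (p i)) = t := fun i => by
    have := mono_apply hF hv hz a ha p i
    rw [show mat (mono hF hv hz a ha p) = Matrix.scalar (Fin 6) t from ht, Matrix.scalar_apply] at this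
    refine v_line hF hv hz (zp_ne hF hv hz _) ?_
    rw [← this]
    funext r
    simp [mulVec_diagonal]
  refine ⟨Equiv.ext fun i => (key i).1, fun i => zp_inj hF hz ?_⟩
  have h0 := (key 0).2
  have hi := (key i).2
  rw [(key 0).1] at h0
  rw [(key i).1] at hi
  rw [hi, h0]

theorem card_ker_le (S : Subgroup (Cfsg.SU 6 F 2)) (hS : S ≤ monoSub hF hv hz) :
    Nat.card ((π).comp S.subtype).ker ≤ 3 := by
  have hmem : ∀ x : ((π).comp S.subtype).ker, ∃ c : ZMod 3, ∃ (hc : ∑ _i : Fin 6, c = 0),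
      (x.1.1 : Cfsg.SU 6 F 2) = mono hF hv hz (fun _ => c) hc 1 := fun x => by
    obtain ⟨⟨a, k⟩, hak⟩ := hS x.1.2
    have hc : (x.1.1 : Cfsg.SU 6 F 2) ∈ Subgroup.center _ := (QuotientGroup.eq_one_iff _).mp (MonoidHom.mem_ker.mp x.2)
    rw [← hak] at hc
    obtain ⟨e1, e2⟩ := center_mono hF hv hz hc
    refine ⟨a.1 0, (Finset.sum_congr rfl fun i _ => (e2 i).symm).trans a.2, ?_⟩
    rw [← hak]
    refine frame_ext hF hv fun i => ?_
    simp only []
    rw [mono_apply hF hv hz, mono_apply hF hv hz, e1, e2]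
  choose c hc hx using hmem
  refine (Nat.card_le_card_of_injective c fun x y e => Subtype.ext (Subtype.ext ?_)).trans (by rw [Nat.card_zmod])
  rw [hx x, hx y]
  simp only [e]

/-- The centraliser of the class has order divisible by the full three-part. -/
theorem card_cent_cls : 729 ∣ Nat.card (Subgroup.centralizer ({cls hF hv hz} : Set (Cfsg.PSU 6 F 2))) := by
  have hle : (monoSub hF hv hz).map π ≤ Subgroup.centralizer ({cls hF hv hz} : Set (Cfsg.PSU 6 F 2)) := by
    rintro _ ⟨_, ⟨x, rfl⟩, rfl⟩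
    rw [Subgroup.mem_centralizer_singleton_iff, cls, ← map_mul, ← map_mul]
    congr 1
    refine frame_ext hF hv fun i => ?_
    simp only [g0, mat_mul, ← mulVec_mulVec, mono_apply hF hv hz, mulVec_smul, smul_smul, Equiv.Perm.one_apply,
      p9_facts.2.2.2]
    rw [mul_comm]
  refine Dvd.dvd.trans ?_ (Subgroup.card_dvd_of_le hle)
  set f := (π).comp (monoSub hF hv hz).subtype
  have hr : f.range = (monoSub hF hv hz).map π := by rw [MonoidHom.range_comp, Subgroup.range_subtype]
  have hm := f.ker.card_mul_index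
  rw [Subgroup.index_ker, hr, card_monoSub hF hv hz] at hm
  exact dvd_of_small (card_ker_le hF hv hz _ le_rfl) hm (by norm_num) (by norm_num)

/-- The image of the diagonal: elementary abelian of order at least eighty-one. -/
theorem diag_image : 81 ∣ Nat.card ((diagSub hF hv hz).map π) ∧
    (∀ x ∈ (diagSub hF hv hz).map π, x ^ 3 = 1) ∧
    ∀ x ∈ (diagSub hF hv hz).map π, ∀ y ∈ (diagSub hF hv hz).map π, Commute x y := by
  refine ⟨?_, ?_, ?_⟩
  · set f := (π).comp (diagSub hF hv hz).subtype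
    have hr : f.range = (diagSub hF hv hz).map π := by rw [MonoidHom.range_comp, Subgroup.range_subtype]
    have hm := f.ker.card_mul_index
    rw [Subgroup.index_ker, hr, card_diagSub hF hv hz] at hm
    refine dvd_of_small (card_ker_le hF hv hz (diagSub hF hv hz) ?_) hm (by norm_num) (by norm_num)
    rintro _ ⟨a, rfl⟩
    exact ⟨(a, 0), by simp only [p9_facts.1]⟩
  · rintro _ ⟨_, ⟨a, rfl⟩, rfl⟩
    rw [← map_pow]
    refine (congrArg π (frame_ext hF hv fun i => ?_)).trans (map_one π)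
    simp only [pow_succ, pow_zero, one_mul, mat_mul, ← mulVec_mulVec, mono_apply hF hv hz, mulVec_smul, smul_smul,
      Equiv.Perm.one_apply, mat_one, one_mulVec]
    rw [← zp_add hF hz, ← zp_add hF hz, (by decide : ∀ b : ZMod 3, b + (b + b) = 0) (a.1 i)]
    simp [zp]
  · rintro _ ⟨_, ⟨a, rfl⟩, rfl⟩ _ ⟨_, ⟨b, rfl⟩, rfl⟩
    show π _ * π _ = π _ * π _
    rw [← map_mul, ← map_mul]
    refine congrArg π (frame_ext hF hv fun i => ?_)
    simp only [mat_mul, ← mulVec_mulVec, mono_apply hF hv hz, mulVec_smul, smul_smul, Equiv.Perm.one_apply]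
    rw [mul_comm]

/-- The class is conjugate to its inverse. -/
theorem cls_conj_inv : ∃ g : Cfsg.PSU 6 F 2, g * cls hF hv hz * g⁻¹ = (cls hF hv hz)⁻¹ := by
  refine ⟨π (mono hF hv hz 0 (by simp) pSwap), ?_⟩
  rw [cls, mul_inv_eq_iff_eq_mul, eq_inv_mul_iff_mul_eq, ← map_mul, ← map_mul]
  refine (QuotientGroup.mk'_eq_mk' _).mpr ⟨(mono hF hv hz (fun _ => -1) (by decide) 1), mono_const hF hv hz _ _, ?_⟩
  refine frame_ext hF hv fun i => ?_
  simp only [g0, mat_mul, ← mulVec_mulVec, mono_apply hF hv hz, mulVec_smul, smul_smul, Equiv.Perm.one_apply,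
    Pi.zero_apply]
  congr 1
  rw [half_sum.2.1 i]
  simp only [← zp_add hF hz]
  congr 1
  ring

end CfsgLib.Fi22Loc.Geom
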