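import Cfsg.Agent.Lib.ThreeTrans.M22.ThreeEigen

/-!
Orthonormal frames of the six-dimensional hermitian space over four elements that are permuted by a given involutory
semilinear isometry.
-/

set_option autoImplicit false
set_option linter.unusedSectionVars false

namespace CfsgLib.Fi22Loc.Geom

open Matrix CfsgLib CfsgLib.UnitaryTransvection CfsgLib.UnitarySimple CfsgThreeTrans.M22

variable {F : Type} [Field F] [Fintype F] [DecidableEq F] (hF : Fintype.card F = 2 ^ 2)

local notation "h" => Cfsg.hermForm 6 F 2
local notation "σ" => frob hF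
local notation "V" => (Fin 6 → F)

/-- An orthonormal finite set. -/
def ON (S : Finset V) : Prop := ∀ s ∈ S, ∀ t ∈ S, h s t = if s = t then 1 else 0

/-- An orthonormal family of six vectors. -/
def IsFrame (v : Fin 6 → V) : Prop := ∀ i j, h (v i) (v j) = if i = j then 1 else 0

/-- An involutory semilinear isometry. -/
structure SemiInv (f : V → V) (τ : F →+* F) : Prop where
  add : ∀ x y, f (x + y) = f x + f y
  smul : ∀ (c : F) x, f (c • x) = τ c • f x
  herm : ∀ x y, h (f x) (f y) = τ (h x y)
  invol : ∀ x, f (f x) = x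
  kind : τ = RingHom.id F ∨ τ = σ

include hF

theorem h_sum {ι : Type} (S : Finset ι) (a : ι → F) (w : ι → V) (y : V) :
    h (∑ i ∈ S, a i • w i) y = ∑ i ∈ S, a i * h (w i) y := by
  classical
  induction S using Finset.induction with
  | empty => simp [h_zero_left hF]
  | insert i S hi ih => rw [Finset.sum_insert hi, Finset.sum_insert hi, h_add_left, h_smul_left, ih]

/-- The orthogonal projection off an orthonormal set. -/
theorem proj_off {S : Finset V} (hS : ON S) (x : V) :
    ∀ t ∈ S, h (x + ∑ s ∈ S, h x s • s) t = 0 := fun t ht => by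
  rw [h_add_left, h_sum hF, Finset.sum_eq_single t (fun s hs hne => by rw [hS s hs t ht, if_neg hne, mul_zero])
    (fun e => absurd ht e), hS t ht t ht, if_pos rfl, mul_one, add_self hF]

/-- An orthonormal set is independent. -/
theorem ON.card_le {S : Finset V} (hS : ON S) : S.card ≤ 6 := by
  have hli : LinearIndependent F (fun s : S => (s : V)) := by
    rw [Fintype.linearIndependent_iff]
    intro a ha t
    have e := congrArg (h · (t : V)) ha
    simp only [h_sum hF, h_zero_left hF] at e
    rw [Finset.sum_eq_single t (fun s _ hne => by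
      rw [hS s.1 s.2 t.1 t.2, if_neg (fun e' => hne (Subtype.ext e')), mul_zero]) (fun e' => absurd (Finset.mem_univ t) e'),
      hS t.1 t.2 t.1 t.2, if_pos rfl, mul_one] at e
    exact e
  have := hli.fintype_card_le_finrank
  simpa [Module.finrank_fin_fun] using this

/-- Room is left below six. -/
theorem exists_perp {S : Finset V} (hS : ON S) (h6 : S.card < 6) : ∃ x : V, x ≠ 0 ∧ ∀ s ∈ S, h x s = 0 := by
  by_contra hne
  push Not at hne
  have hspan : ∀ x : V, x ∈ Submodule.span F (S : Set V) := fun x => by
    set p := x + ∑ s ∈ S, h x s • s with hp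
    have p0 : p = 0 := by
      by_contra e
      obtain ⟨s, hs, hps⟩ := hne p e
      exact hps (proj_off hF hS x s hs)
    have : x = ∑ s ∈ S, h x s • s := by
      have := congrArg (· + ∑ s ∈ S, h x s • s) p0
      simpa [hp, add_assoc, vadd_self hF] using this
    rw [this]
    exact Submodule.sum_mem _ fun s hs => Submodule.smul_mem _ _ (Submodule.subset_span hs)
  have htop : Submodule.span F (S : Set V) = ⊤ := Submodule.eq_top_iff'.mpr hspan
  have := finrank_span_finset_le_card (R := F) S
  rw [Set.finrank, htop, finrank_top, Module.finrank_fin_fun] at this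
  omega

/-- The complement is nondegenerate. -/
theorem perp_partner {S : Finset V} (hS : ON S) {x : V} (hx0 : x ≠ 0) (hx : ∀ s ∈ S, h x s = 0) :
    ∃ y : V, (∀ s ∈ S, h y s = 0) ∧ h x y = 1 ∧ h y x = 1 := by
  obtain ⟨y, h1, h2⟩ := UnitarySimple.exists_partner (n := 6) hF hx0
  have e : h (y + ∑ s ∈ S, h y s • s) x = 1 := by
    rw [h_add_left, h_sum hF, Finset.sum_eq_zero (fun s hs => by rw [← h_swap hF x s, hx s hs, map_zero, mul_zero]),
      add_zero, h2]
  exact ⟨_, proj_off hF hS y, by rw [← h_swap hF _ x, e, map_one], e⟩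

variable {f : (Fin 6 → F) → (Fin 6 → F)} {τ : F →+* F}

/-- A new vector of norm one, fixed or orthogonal to its image. -/
theorem exists_next (J : SemiInv hF f τ) {S : Finset V} (hS : ON S) (hinv : ∀ s ∈ S, f s ∈ S) (h6 : S.card < 6) :
    ∃ x : V, (∀ s ∈ S, h x s = 0) ∧ h x x = 1 ∧ (f x = x ∨ h x (f x) = 0) := by
  obtain ⟨z, z0, z1, hz, hs, -⟩ := exists_zeta hF
  have fP : ∀ {x : V}, (∀ s ∈ S, h x s = 0) → ∀ s ∈ S, h (f x) s = 0 := fun {x} hx s hs' => by
    rw [← J.invol s, J.herm, hx _ (hinv s hs'), map_zero]
  have f0 : f 0 = 0 := by have := J.smul 0 0; simpa using this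
  have Padd : ∀ {x y : V}, (∀ s ∈ S, h x s = 0) → (∀ s ∈ S, h y s = 0) → ∀ s ∈ S, h (x + y) s = 0 :=
    fun hx hy s hs' => by rw [h_add_left, hx s hs', hy s hs', add_zero]
  have Psmul : ∀ (c : F) {x : V}, (∀ s ∈ S, h x s = 0) → ∀ s ∈ S, h (c • x) s = 0 :=
    fun c x hx s hs' => by rw [h_smul_left, hx s hs', mul_zero]
  have fixN : ∀ x, f (x + f x) = x + f x := fun x => by rw [J.add, J.invol, add_comm]
  by_contra hne
  push Not at hne
  have hfix : ∀ x, (∀ s ∈ S, h x s = 0) → f x = x → h x x = 0 := fun x hx hfx =>
    (ThreeEigen.h_self_cases hF x).resolve_right fun e => (hne x hx e).1 hfx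
  obtain ⟨p, p0, hp⟩ := exists_perp hF hS h6
  -- a vector that is not fixed
  obtain ⟨x, hx, hxne⟩ : ∃ x : V, (∀ s ∈ S, h x s = 0) ∧ f x ≠ x := by
    by_contra hall
    push Not at hall
    obtain ⟨y, hy, hxy, hyx⟩ := perp_partner hF hS p0 hp
    have hw : ∀ w, (∀ s ∈ S, h w s = 0) → h w w = 0 := fun w hw' => hfix w hw' (hall w hw')
    have := hw (z • p + y) (Padd (Psmul z hp) hy)
    rw [h_add_left, h_add_right hF, h_add_right hF, h_smul_left, h_smul_right hF, h_smul_right hF, h_smul_left,
      hw p hp, hw y hy, hxy, hyx, hs] at this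
    exact one_ne_zero (α := F) (by linear_combination -this + hz)
  set e := x + f x with he
  have e0 : e ≠ 0 := fun q => hxne (by
    have := congrArg (x + ·) q
    rwa [add_zero, he, ← add_assoc, vadd_self hF, zero_add] at this)
  have hePS : ∀ s ∈ S, h e s = 0 := Padd hx (fP hx)
  have hee : h e e = 0 := hfix e hePS (fixN x)
  have hef : f e = e := fixN x
  rcases J.kind with rfl | rfl
  · -- linear
    have hh : ∀ a b, h (f a) b = h a (f b) := fun a b => by
      conv_lhs => rw [← J.invol b, J.herm, RingHom.id_apply]
    -- the derived hermitian form vanishes on the diagonal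
    have hβ : ∀ a : V, (∀ s ∈ S, h a s = 0) → h a (f a) + h a a = 0 := fun a ha => by
      have sa : h a (f a) = 0 ∨ h a (f a) = 1 := fixed hF (by rw [h_swap hF, hh])
      rcases ThreeEigen.h_self_cases hF a with r | r
      · rcases sa with q | q
        · rw [q, r, add_zero]
        exfalso
        have ha' : ∀ s ∈ S, h (a + z • (a + f a)) s = 0 := Padd ha (Psmul z (Padd ha (fP ha)))
        have hnn : h (a + f a) (a + f a) = 0 := hfix _ (Padd ha (fP ha)) (fixN a)
        have hna : h (a + f a) a = 1 := by rw [h_add_left, r, hh, q, zero_add]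
        have han : h a (a + f a) = 1 := by rw [← h_swap hF, hna, map_one]
        have h1 : h (a + z • (a + f a)) (a + z • (a + f a)) = 1 := by
          rw [h_add_left, h_add_right hF, h_add_right hF, h_smul_left, h_smul_right hF, h_smul_right hF, h_smul_left,
            r, hnn, hna, han, hs]
          linear_combination hz - two_zero hF
        refine (hne _ ha' h1).2 ?_
        have hnf : h (a + f a) (f a) = 1 := by rw [h_add_left, q, J.herm, RingHom.id_apply, r, add_zero]
        rw [J.add, J.smul, RingHom.id_apply, fixN, h_add_left, h_add_right hF, h_add_right hF, h_smul_left,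
          h_smul_right hF, h_smul_left, h_smul_right hF, q, hnn, hnf, han, hs]
        linear_combination hz
      · have : h a (f a) ≠ 0 := (hne a ha r).2
        rw [sa.resolve_left this, r, add_self hF]
    obtain ⟨y, hy, hey, hye⟩ := perp_partner hF hS e0 hePS
    have := hβ (z • x + y) (Padd (Psmul z hx) hy)
    have hx' := hβ x hx
    have hy' := hβ y hy
    have hxe : h e y = h x y + h (f x) y := h_add_left _ _ _
    have hsw : h y x + h y (f x) = 1 := by rw [← h_add_right hF, ← he, hye]
    rw [J.add, J.smul, RingHom.id_apply] at this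
    simp only [h_add_left, h_add_right hF, h_smul_left, h_smul_right hF, hs] at this
    rw [hey, hh] at hxe
    exact one_ne_zero (α := F) (by linear_combination -this + (z * z * z) * hx' + hy' - z * hxe + (z * z) * hsw + hz)
  · -- semilinear
    clear_value e
    obtain ⟨y, hy, hey, hye⟩ := perp_partner hF hS e0 hePS
    set w := z • y + f (z • y) with hw
    have hwPS : ∀ s ∈ S, h w s = 0 := Padd (Psmul z hy) (fP (Psmul z hy))
    have hww : h w w = 0 := hfix w hwPS (fixN _)
    have hwf : f w = w := fixN _
    have hew : h e w = 1 := by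
      have q : h e (f (z • y)) = σ (h e (z • y)) := by rw [← J.herm, hef]
      rw [hw, h_add_right hF, q, h_smul_right hF, hey, mul_one, frob_frob, hs]
      linear_combination hz - two_zero hF
    clear_value w
    have hwe : h w e = 1 := by rw [← h_swap hF e w, hew, map_one]
    have h1 : h (e + z • w) (e + z • w) = 1 := by
      rw [h_add_left, h_add_right hF, h_add_right hF, h_smul_left, h_smul_right hF, h_smul_right hF, h_smul_left,
        hee, hww, hew, hwe, hs]
      linear_combination hz - two_zero hF
    refine (hne _ (Padd hePS (Psmul z hwPS)) h1).2 ?_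
    rw [J.add, J.smul, hef, hwf, h_add_left, h_add_right hF, h_add_right hF, h_smul_left, h_smul_right hF,
      h_smul_left, h_smul_right hF, hee, hww, hew, hwe, frob_frob]
    linear_combination z * two_zero hF

/-- A frame permuted by the isometry. -/
theorem exists_frame (J : SemiInv hF f τ) : ∃ (v : Fin 6 → V) (π : Equiv.Perm (Fin 6)),
    IsFrame v ∧ π * π = 1 ∧ ∀ i, f (v i) = v (π i) := by
  classical
  have key : ∀ k, k ≤ 6 → ∃ S : Finset V, ON S ∧ (∀ s ∈ S, f s ∈ S) ∧ k ≤ S.card := by
    intro k
    induction k with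
    | zero => exact fun _ => ⟨∅, by simp [ON], by simp, Nat.zero_le _⟩
    | succ k ih =>
      intro hk
      obtain ⟨S, hS, hinv, hc⟩ := ih (by omega)
      by_cases h6 : k + 1 ≤ S.card
      · exact ⟨S, hS, hinv, h6⟩
      obtain ⟨x, hx, hxx, hcase⟩ := exists_next hF J hS hinv (by omega)
      have hxS : x ∉ S := fun e => by rw [hx x e] at hxx; exact zero_ne_one hxx
      have fP : ∀ s ∈ S, h (f x) s = 0 := fun s hs' => by
        rw [← J.invol s, J.herm, hx _ (hinv s hs'), map_zero]
      refine ⟨insert x (insert (f x) S), ?_, ?_, ?_⟩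
      · have hff : h (f x) (f x) = 1 := by rw [J.herm, hxx, map_one]
        have swap0 : ∀ {a b : V}, h a b = 0 → h b a = 0 := fun q => by rw [← h_swap hF, q, map_zero]
        intro s hs' t ht
        simp only [Finset.mem_insert] at hs' ht
        have hfS : f x ∉ S := fun e => by rw [fP _ e] at hff; exact zero_ne_one hff
        rcases hs' with rfl | rfl | hs' <;> rcases ht with rfl | rfl | ht
        · rw [if_pos rfl, hxx]
        · rcases hcase with q | q
          · rw [q, if_pos rfl, hxx]
          · rw [q, if_neg fun e => by rw [← e, hxx] at q; exact one_ne_zero q]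
        · rw [hx t ht, if_neg (fun e : _ = t => hxS (by rw [e]; exact ht))]
        · rcases hcase with q | q
          · rw [q, if_pos rfl, hxx]
          · rw [swap0 q, if_neg fun e => by rw [e, hxx] at q; exact one_ne_zero q]
        · rw [if_pos rfl, hff]
        · rw [fP t ht, if_neg (fun e : _ = t => hfS (by rw [e]; exact ht))]
        · rw [swap0 (hx s hs'), if_neg (fun e : s = _ => hxS (by rw [← e]; exact hs'))]
        · rw [swap0 (fP s hs'), if_neg (fun e : s = _ => hfS (by rw [← e]; exact hs'))]
        · exact hS s hs' t ht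
      · intro s hs'
        simp only [Finset.mem_insert] at hs' ⊢
        rcases hs' with rfl | rfl | hs'
        exacts [Or.inr (Or.inl rfl), Or.inl (J.invol _), Or.inr (Or.inr (hinv s hs'))]
      · rw [Finset.card_insert_eq_ite]
        have : S.card ≤ (insert (f x) S).card := Finset.card_le_card (Finset.subset_insert _ _)
        split_ifs with q
        · have : S.card < (insert (f x) S).card :=
            Finset.card_lt_card (Finset.ssubset_iff.mpr ⟨x, hxS, Finset.insert_subset_iff.mpr
              ⟨q, Finset.subset_insert _ _⟩⟩)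
          omega
        · omega
  obtain ⟨S, hS, hinv, hc⟩ := key 6 le_rfl
  have h6 : S.card = 6 := le_antisymm (ON.card_le hF hS) hc
  let e : Fin 6 ≃ S := (Finset.equivFinOfCardEq h6).symm
  let g : Fin 6 → Fin 6 := fun i => e.symm ⟨f (e i), hinv _ (e i).2⟩
  have gg : ∀ i, g (g i) = i := fun i => by
    simp only [g, Equiv.apply_symm_apply, J.invol]
    exact e.symm_apply_apply i
  refine ⟨fun i => (e i : V), ⟨g, g, gg, gg⟩, fun i j => ?_, Equiv.ext gg, fun i => ?_⟩
  · rw [hS _ (e i).2 _ (e j).2]
    by_cases q : i = j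
    · subst q; simp
    · rw [if_neg q, if_neg fun r => q (e.injective (Subtype.ext r))]
  · show f (e i) = (e (g i) : V)
    simp [g]

/-- An involutory permutation of six points preserves or exchanges a half. -/
theorem exists_half : ∀ π : Equiv.Perm (Fin 6), π * π = 1 → ∃ A : Finset (Fin 6), A.card = 3 ∧
    ((∀ i, i ∈ A ↔ π i ∈ A) ∨ ∀ i, i ∈ A ↔ π i ∉ A) := by
  decide +kernel

end CfsgLib.Fi22Loc.Geom
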