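import Cfsg.Agent.Lib.Fi22Loc.Geom.Auto

/-!
Automorphisms of the unitary group carry transvections to transvections.
-/

set_option autoImplicit false
set_option linter.unusedSectionVars false
set_option synthInstance.maxSize 1024

namespace CfsgLib.Fi22Loc.Geom

open Matrix CfsgLib CfsgLib.UnitaryTransvection CfsgLib.UnitarySimple CfsgThreeTrans.M22

variable {F : Type} [Field F] [Fintype F] [DecidableEq F] (hF : Fintype.card F = 2 ^ 2)

local notation "h" => Cfsg.hermForm 6 F 2
local notation "σ" => frob hF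
local notation "V" => (Fin 6 → F)
local notation "π" => QuotientGroup.mk' (Subgroup.center (Cfsg.SU 6 F 2))

include hF

/-- The image of a transvection is a transvection. -/
theorem aut_tu (β : MulAut (Cfsg.PSU 6 F 2)) {u : V} (hu : h u u = 0) (u0 : u ≠ 0) :
    ∃ w : V, w ≠ 0 ∧ h w w = 0 ∧ β (π (tu hF u)) = π (tu hF w) := by
  classical
  obtain ⟨z, -, -, hz, -, -⟩ := exists_zeta hF
  obtain ⟨g, σe, hg, hind⟩ := PolarAut.psu_semilinear hF (n := 6) (by norm_num) (by norm_num) β
  set τ : F →+* F := σe.toRingHom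
  have ττ : ∀ a, τ (τ a) = a := fun a => by
    rcases aut_kinds hF hz τ with e | e <;> rw [e]
    exacts [rfl, frob_frob hF a]
  set f : V → V := fun x => g.1 *ᵥ (fun i => τ (x i)) with hf
  have fadd : ∀ x y, f (x + y) = f x + f y := fun x y => by
    simp only [hf, Pi.add_apply, map_add]
    exact mulVec_add _ _ _
  have fsmul : ∀ (c : F) x, f (c • x) = τ c • f x := fun c x => by
    simp only [hf, Pi.smul_apply, smul_eq_mul, map_mul]
    rw [show (fun i => τ c * τ (x i)) = τ c • fun i => τ (x i) from rfl, mulVec_smul]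
  have fh : ∀ x y, h (f x) (f y) = τ (h x y) := fun x y => by
    show h (g.1 *ᵥ fun i => τ (x i)) (g.1 *ᵥ fun i => τ (y i)) = _
    refine (hg _ _).trans ?_
    simp [Cfsg.hermForm, map_sum]
  have hmv : ∀ (T : Matrix (Fin 6) (Fin 6) F) (x : V),
      (g.1 * T.map σe * (g⁻¹ : GL (Fin 6) F).1) *ᵥ f x = f (T *ᵥ x) := fun T x => by
    simp only [hf]
    rw [← mulVec_mulVec, mulVec_mulVec _ (g⁻¹ : GL (Fin 6) F).1, show (g⁻¹ : GL (Fin 6) F).1 * g.1 = 1 from g.inv_mul,
      one_mulVec, ← mulVec_mulVec]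
    congr 1
    funext i
    simp [Matrix.mulVec, dotProduct, map_sum, τ]
  refine ⟨f u, fun q => u0 ?_, by rw [fh, hu, map_zero], ?_⟩
  · refine h_nondeg hF fun y => ?_
    have := fh u y
    rw [q, h_zero_left hF] at this
    have h2 := congrArg τ this
    rw [map_zero, ττ] at h2
    exact h2.symm
  · refine hind _ _ (Matrix.ext_of_mulVec_single fun j => ?_)
    obtain ⟨x, hx⟩ : ∃ x, f x = Pi.single j 1 := ⟨fun i => τ (((g⁻¹ : GL (Fin 6) F).1 *ᵥ Pi.single j 1) i), by
      simp only [hf, ττ]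
      rw [mulVec_mulVec, show g.1 * (g⁻¹ : GL (Fin 6) F).1 = 1 from g.mul_inv, one_mulVec]⟩
    show mat (tu hF (f u)) *ᵥ Pi.single j 1 = _
    rw [← hx, hmv, show ((tu hF u : Cfsg.SU 6 F 2) : Matrix.SpecialLinearGroup (Fin 6) F).1 = mat (tu hF u) from rfl,
      tu_mulVec hF hu, tu_mulVec hF (by rw [fh, hu, map_zero]), fadd, fsmul, fh]

end CfsgLib.Fi22Loc.Geom
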